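import Mathlib

/-!
# Base change along a flat ring map and the five lemma (helper22)
-/

set_option autoImplicit false
set_option linter.unusedSectionVars false
set_option linter.style.haveILetI false

open TensorProduct

namespace Groth.Agent.Lib.Helper22.FBC

section Def

variable {A : Type*} (B : Type*) [CommRing A] [CommRing B] [Algebra A B]
variable {M N : Type*} [AddCommGroup M] [Module A M] [AddCommGroup N] [Module A N] [Module B N]
  [IsScalarTower A B N]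

/-- `h : M → N` exhibits the `B`-module `N` as the base change `B ⊗[A] M`. -/
def IsBC (h : M →ₗ[A] N) : Prop := Function.Bijective (h.liftBaseChange B)

lemma isBC_of_subsingleton [Subsingleton M] [Subsingleton N] (h : M →ₗ[A] N) : IsBC B h := by
  haveI : Subsingleton (B ⊗[A] M) := by
    refine ⟨fun x y => ?_⟩
    have key : ∀ z : B ⊗[A] M, z = 0 := by
      intro z
      induction z using TensorProduct.induction_on with
      | zero => rfl
      | tmul b m => rw [Subsingleton.elim m 0, TensorProduct.tmul_zero]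
      | add x y hx hy => rw [hx, hy, add_zero]
    rw [key x, key y]
  exact ⟨fun x y _ => Subsingleton.elim x y, fun y => ⟨0, Subsingleton.elim _ _⟩⟩

end Def

section Five

variable {A B : Type*} [CommRing A] [CommRing B] [Algebra A B] [Module.Flat A B]
variable {M₁ M₂ M₃ M₄ M₅ N₁ N₂ N₃ N₄ N₅ : Type*}
variable [AddCommGroup M₁] [AddCommGroup M₂] [AddCommGroup M₃] [AddCommGroup M₄] [AddCommGroup M₅]
variable [Module A M₁] [Module A M₂] [Module A M₃] [Module A M₄] [Module A M₅]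
variable [AddCommGroup N₁] [AddCommGroup N₂] [AddCommGroup N₃] [AddCommGroup N₄] [AddCommGroup N₅]
variable [Module A N₁] [Module A N₂] [Module A N₃] [Module A N₄] [Module A N₅]
variable [Module B N₁] [Module B N₂] [Module B N₃] [Module B N₄] [Module B N₅]
variable [IsScalarTower A B N₁] [IsScalarTower A B N₂] [IsScalarTower A B N₃]
  [IsScalarTower A B N₄] [IsScalarTower A B N₅]
variable (f₁ : M₁ →ₗ[A] M₂) (f₂ : M₂ →ₗ[A] M₃) (f₃ : M₃ →ₗ[A] M₄) (f₄ : M₄ →ₗ[A] M₅)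
variable (g₁ : N₁ →ₗ[B] N₂) (g₂ : N₂ →ₗ[B] N₃) (g₃ : N₃ →ₗ[B] N₄) (g₄ : N₄ →ₗ[B] N₅)
variable (h₁ : M₁ →ₗ[A] N₁) (h₂ : M₂ →ₗ[A] N₂) (h₃ : M₃ →ₗ[A] N₃) (h₄ : M₄ →ₗ[A] N₄)
  (h₅ : M₅ →ₗ[A] N₅)

omit [Module.Flat A B] in
lemma lift_comm (c₁ : ∀ x, g₁ (h₁ x) = h₂ (f₁ x)) :
    g₁.comp (h₁.liftBaseChange B) = (h₂.liftBaseChange B).comp (f₁.baseChange B) := by
  apply TensorProduct.AlgebraTensorModule.curry_injective
  ext m
  simp only [TensorProduct.AlgebraTensorModule.curry_apply, LinearMap.restrictScalars_comp,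
    TensorProduct.curry_apply, LinearMap.coe_comp, LinearMap.coe_restrictScalars,
    Function.comp_apply, LinearMap.liftBaseChange_tmul, one_smul, LinearMap.baseChange_tmul]
  exact c₁ m

lemma exact_baseChange (hf : Function.Exact f₁ f₂) :
    Function.Exact (f₁.baseChange B) (f₂.baseChange B) := by
  have := Module.Flat.lTensor_exact B hf
  intro x
  have h := this x
  simpa [LinearMap.baseChange_eq_ltensor] using h

/-- The five lemma for base change along a flat ring map. -/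
theorem isBC_five (hf₁ : Function.Exact f₁ f₂) (hf₂ : Function.Exact f₂ f₃)
    (hf₃ : Function.Exact f₃ f₄) (hg₁ : Function.Exact g₁ g₂) (hg₂ : Function.Exact g₂ g₃)
    (hg₃ : Function.Exact g₃ g₄)
    (c₁ : ∀ x, g₁ (h₁ x) = h₂ (f₁ x)) (c₂ : ∀ x, g₂ (h₂ x) = h₃ (f₂ x))
    (c₃ : ∀ x, g₃ (h₃ x) = h₄ (f₃ x)) (c₄ : ∀ x, g₄ (h₄ x) = h₅ (f₄ x))
    (H₁ : IsBC B h₁) (H₂ : IsBC B h₂) (H₄ : IsBC B h₄) (H₅ : IsBC B h₅) : IsBC B h₃ :=
  LinearMap.bijective_of_surjective_of_bijective_of_bijective_of_injective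
    (f₁.baseChange B) (f₂.baseChange B) (f₃.baseChange B) (f₄.baseChange B) g₁ g₂ g₃ g₄
    (h₁.liftBaseChange B) (h₂.liftBaseChange B) (h₃.liftBaseChange B) (h₄.liftBaseChange B)
    (h₅.liftBaseChange B)
    (lift_comm f₁ g₁ h₁ h₂ c₁) (lift_comm f₂ g₂ h₂ h₃ c₂) (lift_comm f₃ g₃ h₃ h₄ c₃)
    (lift_comm f₄ g₄ h₄ h₅ c₄)
    (exact_baseChange f₁ f₂ hf₁) (exact_baseChange f₂ f₃ hf₂) (exact_baseChange f₃ f₄ hf₃)
    hg₁ hg₂ hg₃ H₁.2 H₂ H₄ H₅.1

/-- Left-exact version: `0 → M₁ → M₂ → M₃`. -/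
theorem isBC_left (hf₁ : Function.Exact f₁ f₂) (hg₁ : Function.Exact g₁ g₂)
    (hf₀ : Function.Injective f₁) (hg₀ : Function.Injective g₁)
    (c₁ : ∀ x, g₁ (h₁ x) = h₂ (f₁ x)) (c₂ : ∀ x, g₂ (h₂ x) = h₃ (f₂ x))
    (H₂ : IsBC B h₂) (H₃ : IsBC B h₃) : IsBC B h₁ :=
  LinearMap.bijective_of_bijective_of_injective_of_left_exact
    (f₁.baseChange B) (f₂.baseChange B) g₁ g₂
    (h₁.liftBaseChange B) (h₂.liftBaseChange B) (h₃.liftBaseChange B)
    (lift_comm f₁ g₁ h₁ h₂ c₁) (lift_comm f₂ g₂ h₂ h₃ c₂)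
    (exact_baseChange f₁ f₂ hf₁) hg₁ H₂ H₃.1
    (by
      have := Module.Flat.lTensor_preserves_injective_linearMap (M := B) f₁ hf₀
      intro x y hxy
      apply this
      simpa [LinearMap.baseChange_eq_ltensor] using hxy)
    hg₀

end Five

end Groth.Agent.Lib.Helper22.FBC
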