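import Mathlib

/-!
# The five lemma for `M ⊗[A] -` with `M` flat (helper22)
-/

set_option autoImplicit false
set_option linter.unusedSectionVars false

open TensorProduct

namespace Groth.Agent.Lib.Helper22.FBC

section Five2

variable {A : Type*} [CommRing A] (M : Type*) [AddCommGroup M] [Module A M] [Module.Flat A M]
variable {E₁ E₂ E₃ E₄ E₅ N₁ N₂ N₃ N₄ N₅ : Type*}
variable [AddCommGroup E₁] [AddCommGroup E₂] [AddCommGroup E₃] [AddCommGroup E₄] [AddCommGroup E₅]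
variable [Module A E₁] [Module A E₂] [Module A E₃] [Module A E₄] [Module A E₅]
variable [AddCommGroup N₁] [AddCommGroup N₂] [AddCommGroup N₃] [AddCommGroup N₄] [AddCommGroup N₅]
variable [Module A N₁] [Module A N₂] [Module A N₃] [Module A N₄] [Module A N₅]
variable (f₁ : E₁ →ₗ[A] E₂) (f₂ : E₂ →ₗ[A] E₃) (f₃ : E₃ →ₗ[A] E₄) (f₄ : E₄ →ₗ[A] E₅)
variable (g₁ : N₁ →ₗ[A] N₂) (g₂ : N₂ →ₗ[A] N₃) (g₃ : N₃ →ₗ[A] N₄) (g₄ : N₄ →ₗ[A] N₅)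
variable (Θ₁ : M ⊗[A] E₁ →ₗ[A] N₁) (Θ₂ : M ⊗[A] E₂ →ₗ[A] N₂) (Θ₃ : M ⊗[A] E₃ →ₗ[A] N₃)
  (Θ₄ : M ⊗[A] E₄ →ₗ[A] N₄) (Θ₅ : M ⊗[A] E₅ →ₗ[A] N₅)

omit [Module.Flat A M] in
lemma tp_comm (c₁ : ∀ m x, g₁ (Θ₁ (m ⊗ₜ x)) = Θ₂ (m ⊗ₜ f₁ x)) :
    g₁.comp Θ₁ = Θ₂.comp (f₁.lTensor M) := by
  apply TensorProduct.ext'
  intro m x
  simp only [LinearMap.coe_comp, Function.comp_apply, LinearMap.lTensor_tmul]
  exact c₁ m x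

/-- The five lemma for `M ⊗[A] -`. -/
theorem tp_five (hf₁ : Function.Exact f₁ f₂) (hf₂ : Function.Exact f₂ f₃)
    (hf₃ : Function.Exact f₃ f₄) (hg₁ : Function.Exact g₁ g₂) (hg₂ : Function.Exact g₂ g₃)
    (hg₃ : Function.Exact g₃ g₄)
    (c₁ : ∀ m x, g₁ (Θ₁ (m ⊗ₜ x)) = Θ₂ (m ⊗ₜ f₁ x))
    (c₂ : ∀ m x, g₂ (Θ₂ (m ⊗ₜ x)) = Θ₃ (m ⊗ₜ f₂ x))
    (c₃ : ∀ m x, g₃ (Θ₃ (m ⊗ₜ x)) = Θ₄ (m ⊗ₜ f₃ x))
    (c₄ : ∀ m x, g₄ (Θ₄ (m ⊗ₜ x)) = Θ₅ (m ⊗ₜ f₄ x))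
    (H₁ : Function.Bijective Θ₁) (H₂ : Function.Bijective Θ₂) (H₄ : Function.Bijective Θ₄)
    (H₅ : Function.Bijective Θ₅) : Function.Bijective Θ₃ :=
  LinearMap.bijective_of_surjective_of_bijective_of_bijective_of_injective
    (f₁.lTensor M) (f₂.lTensor M) (f₃.lTensor M) (f₄.lTensor M) g₁ g₂ g₃ g₄
    Θ₁ Θ₂ Θ₃ Θ₄ Θ₅
    (tp_comm M f₁ g₁ Θ₁ Θ₂ c₁) (tp_comm M f₂ g₂ Θ₂ Θ₃ c₂) (tp_comm M f₃ g₃ Θ₃ Θ₄ c₃)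
    (tp_comm M f₄ g₄ Θ₄ Θ₅ c₄)
    (Module.Flat.lTensor_exact M hf₁) (Module.Flat.lTensor_exact M hf₂)
    (Module.Flat.lTensor_exact M hf₃)
    hg₁ hg₂ hg₃ H₁.2 H₂ H₄ H₅.1

/-- Left-exact version. -/
theorem tp_left (hf₁ : Function.Exact f₁ f₂) (hg₁ : Function.Exact g₁ g₂)
    (hf₀ : Function.Injective f₁) (hg₀ : Function.Injective g₁)
    (c₁ : ∀ m x, g₁ (Θ₁ (m ⊗ₜ x)) = Θ₂ (m ⊗ₜ f₁ x))
    (c₂ : ∀ m x, g₂ (Θ₂ (m ⊗ₜ x)) = Θ₃ (m ⊗ₜ f₂ x))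
    (H₂ : Function.Bijective Θ₂) (H₃ : Function.Bijective Θ₃) : Function.Bijective Θ₁ :=
  LinearMap.bijective_of_bijective_of_injective_of_left_exact
    (f₁.lTensor M) (f₂.lTensor M) g₁ g₂ Θ₁ Θ₂ Θ₃
    (tp_comm M f₁ g₁ Θ₁ Θ₂ c₁) (tp_comm M f₂ g₂ Θ₂ Θ₃ c₂)
    (Module.Flat.lTensor_exact M hf₁) hg₁ H₂ H₃.1
    (Module.Flat.lTensor_preserves_injective_linearMap (M := M) f₁ hf₀)
    hg₀

lemma tp_bijective_of_subsingleton [Subsingleton E₁] [Subsingleton N₁] :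
    Function.Bijective Θ₁ := by
  have : Subsingleton (M ⊗[A] E₁) := by
    refine ⟨fun x y => ?_⟩
    have key : ∀ z : M ⊗[A] E₁, z = 0 := by
      intro z
      induction z using TensorProduct.induction_on with
      | zero => rfl
      | tmul b m => rw [Subsingleton.elim m 0, TensorProduct.tmul_zero]
      | add x y hx hy => rw [hx, hy, add_zero]
    rw [key x, key y]
  exact ⟨fun x y _ => Subsingleton.elim x y, fun y => ⟨0, Subsingleton.elim _ _⟩⟩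

end Five2

end Groth.Agent.Lib.Helper22.FBC
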