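import Groth.Agent.Lib.Helper22.FBC.Alg

/-!
# Base change of modules along a pushout square of rings (helper22)
-/

set_option autoImplicit false
set_option linter.unusedSectionVars false
set_option linter.style.haveILetI false

universe u

open TensorProduct CategoryTheory CategoryTheory.Limits

namespace Groth.Agent.Lib.Helper22.FBC

/-- Let `R' = B ⊗[A] R` (pushout of commutative rings), `M` an `R`-module, `M'` an `R'`-module with
`M' = R' ⊗[R] M` via `p`.  Then `M' = B ⊗[A] M`.  The statement is transported along additive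
equivalences `E ≃+ M`, `E' ≃+ M'`. -/
theorem isBC_of_pushout
    {A B : Type u} [CommRing A] [CommRing B] [Algebra A B]
    {R R' : CommRingCat.{u}} (α : CommRingCat.of A ⟶ R) (β : CommRingCat.of B ⟶ R') (γ : R ⟶ R')
    (hpo : IsPushout α (CommRingCat.ofHom (algebraMap A B)) γ β)
    {M M' : Type*} [AddCommGroup M] [Module R M] [AddCommGroup M'] [Module R' M']
    (p : M →+ M')
    (hp : letI := γ.hom.toAlgebra; ∃ e₂ : M' ≃ₗ[R'] R' ⊗[R] M, ∀ m, e₂ (p m) = 1 ⊗ₜ m)
    {E E' : Type*} [AddCommGroup E] [Module A E] [AddCommGroup E'] [Module A E'] [Module B E']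
    [IsScalarTower A B E']
    (h : E →ₗ[A] E') (e : E ≃+ M) (e' : E' ≃+ M')
    (he : ∀ (a : A) (x : E), e (a • x) = α.hom a • e x)
    (he' : ∀ (b : B) (y : E'), e' (b • y) = β.hom b • e' y)
    (hh : ∀ x, e' (h x) = p (e x)) : IsBC B h := by
  letI : Algebra A R := α.hom.toAlgebra
  letI : Algebra R R' := γ.hom.toAlgebra
  letI : Algebra B R' := β.hom.toAlgebra
  letI : Algebra A R' := (γ.hom.comp α.hom).toAlgebra
  haveI : IsScalarTower A R R' := .of_algebraMap_eq' rfl
  haveI : IsScalarTower A B R' := .of_algebraMap_eq' congr($(hpo.w).hom)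
  have hP : Algebra.IsPushout A R B R' := CommRingCat.isPushout_iff_isPushout.mp hpo
  haveI : Algebra.IsPushout A B R R' := hP.symm
  letI : Module A M := Module.compHom M α.hom
  haveI : IsScalarTower A R M := ⟨fun a r m => by
    change (α.hom a * r) • m = α.hom a • (r • m)
    rw [mul_smul]⟩
  obtain ⟨e₂, he₂⟩ := hp
  let eA : E ≃ₗ[A] M := { e with map_smul' := fun a x => he a x }
  let F1 : B ⊗[A] E ≃ₗ[A] B ⊗[A] M := TensorProduct.congr (LinearEquiv.refl A B) eA
  let F2 : B ⊗[A] M ≃ₗ[B] R' ⊗[R] M := (Algebra.IsPushout.cancelBaseChange A B R R' M).symm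
  have key : ∀ t, h.liftBaseChange B t = e'.symm (e₂.symm (F2 (F1 t))) := by
    intro t
    induction t using TensorProduct.induction_on with
    | zero => simp
    | add x y hx hy => simp only [map_add, hx, hy]
    | tmul b x =>
      rw [LinearMap.liftBaseChange_tmul]
      have h1 : F1 (b ⊗ₜ[A] x) = b ⊗ₜ[A] e x := rfl
      have h2 : F2 (b ⊗ₜ[A] e x) = algebraMap B R' b ⊗ₜ[R] e x :=
        Algebra.IsPushout.cancelBaseChange_symm_tmul A B R R' M b (e x)
      have h3 : (algebraMap B R' b ⊗ₜ[R] e x : R' ⊗[R] M) = β.hom b • ((1 : R') ⊗ₜ[R] e x) := by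
        rw [TensorProduct.smul_tmul', smul_eq_mul, mul_one]
        rfl
      rw [h1, h2, h3, map_smul, ← he₂ (e x), LinearEquiv.symm_apply_apply, ← hh x, ← he' b (h x),
        AddEquiv.symm_apply_apply]
  have hfun : ⇑(h.liftBaseChange B) = fun t => e'.symm (e₂.symm (F2 (F1 t))) := funext key
  change Function.Bijective ⇑(h.liftBaseChange B)
  rw [hfun]
  exact e'.symm.bijective.comp (e₂.symm.bijective.comp (F2.bijective.comp F1.bijective))

end Groth.Agent.Lib.Helper22.FBC
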