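import Groth.Agent.Lib.Helper22.FBC.Alg2

/-!
# Tensor products along a pushout square of rings (helper22)
-/

set_option autoImplicit false
set_option linter.unusedSectionVars false
set_option linter.style.haveILetI false

universe u

open TensorProduct CategoryTheory CategoryTheory.Limits

namespace Groth.Agent.Lib.Helper22.FBC

/-- Let `S = B ⊗[A] R` (pushout of commutative rings), `N` an `R`-module, `M` a `B`-module,
`P = S ⊗[R] N` via `p`, `Q = S ⊗[B] M` via `μ`.  Then `M ⊗[A] N = P ⊗[S] Q` via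
`m ⊗ n ↦ p n ⊗ μ m`.  The statement is transported along additive equivalences. -/
theorem tp_of_pushout
    {A : Type u} [CommRing A]
    {B R S : CommRingCat.{u}} (φ : CommRingCat.of A ⟶ B) (α : CommRingCat.of A ⟶ R) (β : B ⟶ S)
    (γ : R ⟶ S) (hpo : IsPushout α φ γ β)
    {M : Type u} [AddCommGroup M] [Module A M] [Module B M]
    (hAB : ∀ (a : A) (m : M), a • m = φ.hom a • m)
    {N P Q T : Type u} [AddCommGroup N] [Module R N] [AddCommGroup P] [Module S P]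
    [AddCommGroup Q] [Module S Q] [AddCommGroup T]
    (p : N →+ P)
    (hp : letI := γ.hom.toAlgebra; ∃ e₂ : P ≃ₗ[S] S ⊗[R] N, ∀ n, e₂ (p n) = 1 ⊗ₜ n)
    (μ : M →+ Q)
    (hμ : letI := β.hom.toAlgebra; ∃ e₃ : Q ≃ₗ[S] S ⊗[B] M, ∀ m, e₃ (μ m) = 1 ⊗ₜ m)
    (τ : P ⊗[S] Q ≃+ T)
    {E E' : Type*} [AddCommGroup E] [Module A E] [AddCommGroup E'] [Module A E']
    (Θ : M ⊗[A] E →ₗ[A] E') (e : E ≃+ N) (e' : E' ≃+ T)
    (he : ∀ (a : A) (x : E), e (a • x) = α.hom a • e x)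
    (hΘ : ∀ m x, e' (Θ (m ⊗ₜ x)) = τ (p (e x) ⊗ₜ μ m)) : Function.Bijective Θ := by
  letI : Algebra A B := φ.hom.toAlgebra
  haveI : IsScalarTower A B M := ⟨fun a b m => by
    change (φ.hom a * b) • m = a • (b • m)
    rw [mul_smul, hAB]⟩
  have hpo : IsPushout α (CommRingCat.ofHom (algebraMap A B)) γ β := hpo
  letI : Algebra A R := α.hom.toAlgebra
  letI : Algebra R S := γ.hom.toAlgebra
  letI : Algebra B S := β.hom.toAlgebra
  letI : Algebra A S := (γ.hom.comp α.hom).toAlgebra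
  haveI : IsScalarTower A R S := .of_algebraMap_eq' rfl
  haveI : IsScalarTower A B S := .of_algebraMap_eq' congr($(hpo.w).hom)
  have hP : Algebra.IsPushout A R B S := CommRingCat.isPushout_iff_isPushout.mp hpo
  haveI : Algebra.IsPushout A B R S := hP.symm
  letI : Module A N := Module.compHom N α.hom
  haveI : IsScalarTower A R N := ⟨fun a r m => by
    change (α.hom a * r) • m = α.hom a • (r • m)
    rw [mul_smul]⟩
  letI : Module B P := Module.compHom P β.hom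
  haveI : IsScalarTower B S P := ⟨fun b s x => by
    change (β.hom b * s) • x = β.hom b • (s • x)
    rw [mul_smul]⟩
  obtain ⟨e₂, he₂⟩ := hp
  obtain ⟨e₃, he₃⟩ := hμ
  let eA : E ≃ₗ[A] N := { e with map_smul' := fun a x => he a x }
  let F1 : M ⊗[A] E ≃ₗ[A] M ⊗[A] N := TensorProduct.congr (LinearEquiv.refl A M) eA
  let F2 : M ⊗[A] N ≃ₗ[B] M ⊗[B] (B ⊗[A] N) :=
    (TensorProduct.AlgebraTensorModule.cancelBaseChange A B B M N).symm
  let F3 : M ⊗[B] (B ⊗[A] N) ≃ₗ[B] M ⊗[B] (S ⊗[R] N) :=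
    TensorProduct.congr (LinearEquiv.refl B M) (Algebra.IsPushout.cancelBaseChange A B R S N).symm
  let F4 : M ⊗[B] (S ⊗[R] N) ≃ₗ[B] M ⊗[B] P :=
    TensorProduct.congr (LinearEquiv.refl B M) (e₂.symm.restrictScalars B)
  let F5 : M ⊗[B] P ≃ₗ[B] P ⊗[B] M := TensorProduct.comm B M P
  let F6 : P ⊗[B] M ≃ₗ[S] P ⊗[S] (S ⊗[B] M) :=
    (TensorProduct.AlgebraTensorModule.cancelBaseChange B S S P M).symm
  let F7 : P ⊗[S] (S ⊗[B] M) ≃ₗ[S] P ⊗[S] Q :=
    TensorProduct.congr (LinearEquiv.refl S P) e₃.symm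
  have key : ∀ t, Θ t = e'.symm (τ (F7 (F6 (F5 (F4 (F3 (F2 (F1 t)))))))) := by
    intro t
    induction t using TensorProduct.induction_on with
    | zero => simp
    | add x y hx hy => simp only [map_add, hx, hy]
    | tmul m x =>
      have h1 : F1 (m ⊗ₜ[A] x) = m ⊗ₜ[A] e x := rfl
      have h2 : F2 (m ⊗ₜ[A] e x) = m ⊗ₜ[B] ((1 : B) ⊗ₜ[A] e x) := rfl
      have h3 : F3 (m ⊗ₜ[B] ((1 : B) ⊗ₜ[A] e x)) = m ⊗ₜ[B] ((1 : S) ⊗ₜ[R] e x) := by
        change m ⊗ₜ[B] ((Algebra.IsPushout.cancelBaseChange A B R S N).symm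
          ((1 : B) ⊗ₜ[A] e x)) = _
        rw [Algebra.IsPushout.cancelBaseChange_symm_tmul, map_one]
      have h4 : F4 (m ⊗ₜ[B] ((1 : S) ⊗ₜ[R] e x)) = m ⊗ₜ[B] p (e x) := by
        change m ⊗ₜ[B] (e₂.symm ((1 : S) ⊗ₜ[R] e x)) = _
        rw [← he₂ (e x), LinearEquiv.symm_apply_apply]
      have h5 : F5 (m ⊗ₜ[B] p (e x)) = p (e x) ⊗ₜ[B] m := rfl
      have h6 : F6 (p (e x) ⊗ₜ[B] m) = p (e x) ⊗ₜ[S] ((1 : S) ⊗ₜ[B] m) := rfl
      have h7 : F7 (p (e x) ⊗ₜ[S] ((1 : S) ⊗ₜ[B] m)) = p (e x) ⊗ₜ[S] μ m := by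
        change p (e x) ⊗ₜ[S] (e₃.symm ((1 : S) ⊗ₜ[B] m)) = _
        rw [← he₃ m, LinearEquiv.symm_apply_apply]
      rw [h1, h2, h3, h4, h5, h6, h7, ← hΘ m x, AddEquiv.symm_apply_apply]
  have hfun : ⇑Θ = fun t => e'.symm (τ (F7 (F6 (F5 (F4 (F3 (F2 (F1 t)))))))) := funext key
  rw [hfun]
  exact e'.symm.bijective.comp (τ.bijective.comp (F7.bijective.comp (F6.bijective.comp
    (F5.bijective.comp (F4.bijective.comp (F3.bijective.comp (F2.bijective.comp F1.bijective)))))))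

end Groth.Agent.Lib.Helper22.FBC
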