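import Groth.Agent.Lib.Helper22.FBC.Alg

/-!
# `Ext` groups into an object with a ring action, and base change (helper22)

For an object `F` with an action of `A`, an object `G` with an action of `B` and an
`A → B`-semilinear morphism `η : F ⟶ G`, we study the property
`Q Z : ∀ n, B ⊗[A] Ext^n(Z, F) ≃ Ext^n(Z, G)` (via `η`), and show it satisfies two-out-of-three
in short exact sequences in `Z` (for `B` flat over `A`).
-/

set_option autoImplicit false
set_option linter.unusedSectionVars false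

universe w v u

open CategoryTheory CategoryTheory.Limits CategoryTheory.Abelian

namespace Groth.Agent.Lib.Helper22.FBC

variable {𝒜 : Type u} [Category.{v} 𝒜] [Abelian 𝒜] [HasExt.{w} 𝒜]

/-- An action of a ring on an object (composition order as for `Coh.smulAb`). -/
structure Act (R : Type*) [Ring R] (Y : 𝒜) where
  /-- the endomorphisms -/
  ρ : R → (Y ⟶ Y)
  map_one : ρ 1 = 𝟙 Y
  map_mul : ∀ r s, ρ (r * s) = ρ s ≫ ρ r
  map_add : ∀ r s, ρ (r + s) = ρ r + ρ s

lemma Act.map_zero {R : Type*} [Ring R] {Y : 𝒜} (a : Act R Y) : a.ρ 0 = 0 := by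
  have h := a.map_add 0 0
  rw [add_zero] at h
  exact left_eq_add.mp h

/-- The module structure on `Ext^n(Z, Y)` induced by an action on `Y`. -/
@[reducible] noncomputable def Act.module {R : Type*} [Ring R] {Y : 𝒜} (a : Act R Y) (Z : 𝒜) (n : ℕ) :
    Module R (Ext Z Y n) where
  smul r x := x.comp (Ext.mk₀ (a.ρ r)) (add_zero n)
  one_smul x := by
    change x.comp (Ext.mk₀ (a.ρ 1)) (add_zero n) = x
    rw [a.map_one, Ext.comp_mk₀_id]
  mul_smul r s x := by
    change x.comp (Ext.mk₀ (a.ρ (r * s))) (add_zero n) =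
      (x.comp (Ext.mk₀ (a.ρ s)) (add_zero n)).comp (Ext.mk₀ (a.ρ r)) (add_zero n)
    rw [a.map_mul, Ext.comp_assoc_of_third_deg_zero, Ext.mk₀_comp_mk₀]
  smul_zero r := Ext.zero_comp _ _ _ _ _
  smul_add r x y := Ext.add_comp _ _ _ _
  add_smul r s x := by
    change x.comp (Ext.mk₀ (a.ρ (r + s))) (add_zero n) =
      x.comp (Ext.mk₀ (a.ρ r)) (add_zero n) + x.comp (Ext.mk₀ (a.ρ s)) (add_zero n)
    rw [a.map_add, Ext.mk₀_add, Ext.comp_add]
  zero_smul x := by
    change x.comp (Ext.mk₀ (a.ρ 0)) (add_zero n) = 0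
    rw [a.map_zero, Ext.mk₀_zero, Ext.comp_zero]

/-- A semilinear morphism `η : F ⟶ G` between an `A`-object and a `B`-object. -/
structure Datum (A B : Type*) [CommRing A] [CommRing B] [Algebra A B] (F G : 𝒜) where
  /-- the action on the source -/
  aF : Act A F
  /-- the action on the target -/
  aG : Act B G
  /-- the morphism -/
  η : F ⟶ G
  compat : ∀ r, aF.ρ r ≫ η = η ≫ aG.ρ (algebraMap A B r)

variable {A B : Type*} [CommRing A] [CommRing B] [Algebra A B] {F G : 𝒜}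

/-- `Ext^n(Z, F)` with its `A`-module structure. -/
def EF (_D : Datum A B F G) (Z : 𝒜) (n : ℕ) : Type w := Ext Z F n

/-- `Ext^n(Z, G)` with its `B`-module structure. -/
def EG (_D : Datum A B F G) (Z : 𝒜) (n : ℕ) : Type w := Ext Z G n

section inst

variable (D : Datum A B F G) (Z : 𝒜) (n : ℕ)

noncomputable instance : AddCommGroup (EF D Z n) := inferInstanceAs (AddCommGroup (Ext Z F n))
noncomputable instance : AddCommGroup (EG D Z n) := inferInstanceAs (AddCommGroup (Ext Z G n))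
noncomputable instance instModuleEF : Module A (EF D Z n) := D.aF.module Z n
noncomputable instance instModuleEGB : Module B (EG D Z n) := D.aG.module Z n
noncomputable instance instModuleEGA : Module A (EG D Z n) :=
  Module.compHom (EG D Z n) (algebraMap A B)

instance : IsScalarTower A B (EG D Z n) := ⟨fun a b x => by
  change (a • b) • x = algebraMap A B a • (b • x)
  rw [Algebra.smul_def, mul_smul]⟩

lemma EF_smul (r : A) (x : EF D Z n) :
    r • x = Ext.comp (x : Ext Z F n) (Ext.mk₀ (D.aF.ρ r)) (add_zero n) := rfl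

lemma EG_smul (b : B) (x : EG D Z n) :
    b • x = Ext.comp (x : Ext Z G n) (Ext.mk₀ (D.aG.ρ b)) (add_zero n) := rfl

lemma EG_smulA (r : A) (x : EG D Z n) : r • x = algebraMap A B r • x := rfl

/-- Postcomposition with `η`. -/
noncomputable def ηL : EF D Z n →ₗ[A] EG D Z n where
  toFun x := Ext.comp (x : Ext Z F n) (Ext.mk₀ D.η) (add_zero n)
  map_add' x y := Ext.add_comp _ _ _ _
  map_smul' r x := by
    change Ext.comp (Ext.comp (x : Ext Z F n) (Ext.mk₀ (D.aF.ρ r)) (add_zero n)) (Ext.mk₀ D.η)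
        (add_zero n) =
      Ext.comp (Ext.comp (x : Ext Z F n) (Ext.mk₀ D.η) (add_zero n))
        (Ext.mk₀ (D.aG.ρ (algebraMap A B r))) (add_zero n)
    rw [Ext.comp_assoc_of_third_deg_zero, Ext.comp_assoc_of_third_deg_zero, Ext.mk₀_comp_mk₀,
      Ext.mk₀_comp_mk₀, D.compat]

lemma ηL_apply (x : EF D Z n) :
    ηL D Z n x = Ext.comp (x : Ext Z F n) (Ext.mk₀ D.η) (add_zero n) := rfl

end inst

section pre

variable (D : Datum A B F G) {Z Z' : 𝒜} {m : ℕ} (α : Ext Z' Z m) {n n' : ℕ} (h : m + n = n')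

/-- Precomposition with a class `α`, on `Ext(-, F)`. -/
noncomputable def preF : EF D Z n →ₗ[A] EF D Z' n' where
  toFun x := α.comp (x : Ext Z F n) h
  map_add' x y := Ext.comp_add _ _ _ _
  map_smul' r x := by
    change α.comp (Ext.comp (x : Ext Z F n) (Ext.mk₀ (D.aF.ρ r)) (add_zero n)) h =
      Ext.comp (α.comp (x : Ext Z F n) h) (Ext.mk₀ (D.aF.ρ r)) (add_zero n')
    rw [Ext.comp_assoc_of_third_deg_zero]

/-- Precomposition with a class `α`, on `Ext(-, G)`. -/
noncomputable def preG : EG D Z n →ₗ[B] EG D Z' n' where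
  toFun x := α.comp (x : Ext Z G n) h
  map_add' x y := Ext.comp_add _ _ _ _
  map_smul' r x := by
    change α.comp (Ext.comp (x : Ext Z G n) (Ext.mk₀ (D.aG.ρ r)) (add_zero n)) h =
      Ext.comp (α.comp (x : Ext Z G n) h) (Ext.mk₀ (D.aG.ρ r)) (add_zero n')
    rw [Ext.comp_assoc_of_third_deg_zero]

lemma preF_apply (x : EF D Z n) : preF D α h x = α.comp (x : Ext Z F n) h := rfl
lemma preG_apply (x : EG D Z n) : preG D α h x = α.comp (x : Ext Z G n) h := rfl

lemma pre_comm (x : EF D Z n) : preG D α h (ηL D Z n x) = ηL D Z' n' (preF D α h x) := by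
  change α.comp (Ext.comp (x : Ext Z F n) (Ext.mk₀ D.η) (add_zero n)) h =
    Ext.comp (α.comp (x : Ext Z F n) h) (Ext.mk₀ D.η) (add_zero n')
  rw [Ext.comp_assoc_of_third_deg_zero]

end pre

section exact

variable {S : ShortComplex 𝒜} (hS : S.ShortExact) (Y : 𝒜)

include hS in
lemma exact_g_f (n : ℕ) (y : Ext S.X₂ Y n) :
    (Ext.mk₀ S.f).comp y (zero_add n) = 0 ↔
      ∃ x : Ext S.X₃ Y n, (Ext.mk₀ S.g).comp x (zero_add n) = y := by
  constructor
  · exact Ext.contravariant_sequence_exact₂ hS Y y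
  · rintro ⟨x, rfl⟩
    rw [Ext.mk₀_comp_mk₀_assoc, S.zero, Ext.mk₀_zero, Ext.zero_comp]

lemma exact_f_δ {n n' : ℕ} (h : 1 + n = n') (y : Ext S.X₁ Y n) :
    hS.extClass.comp y h = 0 ↔
      ∃ x : Ext S.X₂ Y n, (Ext.mk₀ S.f).comp x (zero_add n) = y := by
  constructor
  · exact Ext.contravariant_sequence_exact₁ hS Y y h
  · rintro ⟨x, rfl⟩
    exact hS.extClass_comp_assoc x

lemma exact_δ_g {n n' : ℕ} (h : 1 + n = n') (y : Ext S.X₃ Y n') :
    (Ext.mk₀ S.g).comp y (zero_add n') = 0 ↔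
      ∃ x : Ext S.X₁ Y n, hS.extClass.comp x h = y := by
  constructor
  · intro hy
    exact Ext.contravariant_sequence_exact₃ hS Y y hy h
  · rintro ⟨x, rfl⟩
    exact hS.comp_extClass_assoc x h

end exact

/-- The base change property for `Z`. -/
def Q (D : Datum A B F G) (Z : 𝒜) : Prop := ∀ n : ℕ, IsBC B (ηL D Z n)

variable [Module.Flat A B] (D : Datum A B F G)

theorem Q_X₃ {S : ShortComplex 𝒜} (hS : S.ShortExact) (h₁ : Q D S.X₁) (h₂ : Q D S.X₂) :
    Q D S.X₃ := by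
  intro n
  cases n with
  | zero =>
    have : Epi S.g := hS.epi_g
    refine isBC_left (preF D (Ext.mk₀ S.g) (zero_add 0)) (preF D (Ext.mk₀ S.f) (zero_add 0))
      (preG D (Ext.mk₀ S.g) (zero_add 0)) (preG D (Ext.mk₀ S.f) (zero_add 0))
      (ηL D S.X₃ 0) (ηL D S.X₂ 0) (ηL D S.X₁ 0)
      (fun y => exact_g_f hS F 0 y) (fun y => exact_g_f hS G 0 y)
      (Ext.precomp_mk₀_injective_of_epi F S.g) (Ext.precomp_mk₀_injective_of_epi G S.g)
      (fun x => pre_comm D _ _ x) (fun x => pre_comm D _ _ x) (h₂ 0) (h₁ 0)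
  | succ n =>
    exact isBC_five (preF D (Ext.mk₀ S.f) (zero_add n)) (preF D hS.extClass (Nat.add_comm 1 n))
      (preF D (Ext.mk₀ S.g) (zero_add (n + 1))) (preF D (Ext.mk₀ S.f) (zero_add (n + 1)))
      (preG D (Ext.mk₀ S.f) (zero_add n)) (preG D hS.extClass (Nat.add_comm 1 n))
      (preG D (Ext.mk₀ S.g) (zero_add (n + 1))) (preG D (Ext.mk₀ S.f) (zero_add (n + 1)))
      (ηL D S.X₂ n) (ηL D S.X₁ n) (ηL D S.X₃ (n + 1)) (ηL D S.X₂ (n + 1)) (ηL D S.X₁ (n + 1))
      (fun y => exact_f_δ hS F (Nat.add_comm 1 n) y) (fun y => exact_δ_g hS F (Nat.add_comm 1 n) y)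
      (fun y => exact_g_f hS F _ y)
      (fun y => exact_f_δ hS G (Nat.add_comm 1 n) y) (fun y => exact_δ_g hS G (Nat.add_comm 1 n) y)
      (fun y => exact_g_f hS G _ y)
      (fun x => pre_comm D _ _ x) (fun x => pre_comm D _ _ x) (fun x => pre_comm D _ _ x)
      (fun x => pre_comm D _ _ x) (h₂ n) (h₁ n) (h₂ (n + 1)) (h₁ (n + 1))

theorem Q_X₂ {S : ShortComplex 𝒜} (hS : S.ShortExact) (h₁ : Q D S.X₁) (h₃ : Q D S.X₃) :
    Q D S.X₂ := by
  intro n
  cases n with
  | zero =>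
    have : Epi S.g := hS.epi_g
    refine isBC_five (0 : PUnit.{1} →ₗ[A] EF D S.X₃ 0) (preF D (Ext.mk₀ S.g) (zero_add 0))
      (preF D (Ext.mk₀ S.f) (zero_add 0)) (preF D hS.extClass (Nat.add_comm 1 0))
      (0 : PUnit.{1} →ₗ[B] EG D S.X₃ 0) (preG D (Ext.mk₀ S.g) (zero_add 0))
      (preG D (Ext.mk₀ S.f) (zero_add 0)) (preG D hS.extClass (Nat.add_comm 1 0))
      (0 : PUnit.{1} →ₗ[A] PUnit.{1}) (ηL D S.X₃ 0) (ηL D S.X₂ 0) (ηL D S.X₁ 0) (ηL D S.X₃ 1)
      ?_ (fun y => exact_g_f hS F _ y) (fun y => exact_f_δ hS F (Nat.add_comm 1 0) y)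
      ?_ (fun y => exact_g_f hS G _ y) (fun y => exact_f_δ hS G (Nat.add_comm 1 0) y)
      (fun x => ?_) (fun x => pre_comm D _ _ x) (fun x => pre_comm D _ _ x)
      (fun x => pre_comm D _ _ x) (isBC_of_subsingleton B _) (h₃ 0) (h₁ 0) (h₃ 1)
    · intro y
      constructor
      · intro hy
        refine ⟨0, ?_⟩
        exact (Ext.precomp_mk₀_injective_of_epi F S.g
          (hy.trans (map_zero (preF D (Ext.mk₀ S.g) (zero_add 0))).symm)).symm
      · rintro ⟨x, rfl⟩
        exact map_zero _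
    · intro y
      constructor
      · intro hy
        refine ⟨0, ?_⟩
        exact (Ext.precomp_mk₀_injective_of_epi G S.g
          (hy.trans (map_zero (preG D (Ext.mk₀ S.g) (zero_add 0))).symm)).symm
      · rintro ⟨x, rfl⟩
        exact map_zero _
    · exact (map_zero _).trans (map_zero _).symm
  | succ n =>
    exact isBC_five (preF D hS.extClass (Nat.add_comm 1 n))
      (preF D (Ext.mk₀ S.g) (zero_add (n + 1))) (preF D (Ext.mk₀ S.f) (zero_add (n + 1)))
      (preF D hS.extClass (Nat.add_comm 1 (n + 1)))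
      (preG D hS.extClass (Nat.add_comm 1 n))
      (preG D (Ext.mk₀ S.g) (zero_add (n + 1))) (preG D (Ext.mk₀ S.f) (zero_add (n + 1)))
      (preG D hS.extClass (Nat.add_comm 1 (n + 1)))
      (ηL D S.X₁ n) (ηL D S.X₃ (n + 1)) (ηL D S.X₂ (n + 1)) (ηL D S.X₁ (n + 1))
      (ηL D S.X₃ (n + 1 + 1))
      (fun y => exact_δ_g hS F (Nat.add_comm 1 n) y) (fun y => exact_g_f hS F _ y)
      (fun y => exact_f_δ hS F (Nat.add_comm 1 (n + 1)) y)
      (fun y => exact_δ_g hS G (Nat.add_comm 1 n) y) (fun y => exact_g_f hS G _ y)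
      (fun y => exact_f_δ hS G (Nat.add_comm 1 (n + 1)) y)
      (fun x => pre_comm D _ _ x) (fun x => pre_comm D _ _ x) (fun x => pre_comm D _ _ x)
      (fun x => pre_comm D _ _ x) (h₁ n) (h₃ (n + 1)) (h₁ (n + 1)) (h₃ (n + 1 + 1))

theorem Q_biprod {Z₁ Z₂ : 𝒜} (h₁ : Q D Z₁) (h₂ : Q D Z₂) : Q D (Z₁ ⊞ Z₂) :=
  Q_X₂ D (S := ShortComplex.mk (biprod.inl : Z₁ ⟶ Z₁ ⊞ Z₂) biprod.snd biprod.inl_snd)
    (ShortComplex.Splitting.ofHasBinaryBiproduct Z₁ Z₂).shortExact h₁ h₂

end Groth.Agent.Lib.Helper22.FBC
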