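import Groth.Agent.Lib.Helper22.FBC.ExtMod
import Groth.Agent.Lib.Helper22.FBC.Alg2

/-!
# `M ⊗[A] Ext(Z, F) ≃ Ext(Z, G)` for a flat module `M` and a pairing `M → Hom(F, G)` (helper22)
-/

set_option autoImplicit false
set_option linter.unusedSectionVars false

universe w v u

open CategoryTheory CategoryTheory.Limits CategoryTheory.Abelian TensorProduct

namespace Groth.Agent.Lib.Helper22.FBC

variable {𝒜 : Type u} [Category.{v} 𝒜] [Abelian 𝒜] [HasExt.{w} 𝒜]

/-- A pairing `M → Hom(F, G)`, `A`-balanced and `B`-linear. -/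
structure Datum2 (A B M : Type*) [CommRing A] [CommRing B] [Algebra A B] [AddCommGroup M]
    [Module A M] [Module B M] [IsScalarTower A B M] (F G : 𝒜) where
  /-- the action on the source -/
  aF : Act A F
  /-- the action on the target -/
  aG : Act B G
  /-- the pairing -/
  θ : M →+ (F ⟶ G)
  hA : ∀ (a : A) (m : M), θ (a • m) = aF.ρ a ≫ θ m
  hB : ∀ (b : B) (m : M), θ (b • m) = θ m ≫ aG.ρ b

variable {A B M : Type*} [CommRing A] [CommRing B] [Algebra A B] [AddCommGroup M]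
    [Module A M] [Module B M] [IsScalarTower A B M] {F G : 𝒜}

/-- The underlying pair of actions, as a `Datum` with zero morphism. -/
def Datum2.toDatum (D : Datum2 A B M F G) : Datum A B F G where
  aF := D.aF
  aG := D.aG
  η := 0
  compat r := by rw [comp_zero, zero_comp]

section

variable (D : Datum2 A B M F G) (Z : 𝒜) (n : ℕ)

lemma Datum2.hA' (a : A) (m : M) : D.θ (a • m) = D.θ m ≫ D.aG.ρ (algebraMap A B a) := by
  rw [← D.hB, algebraMap_smul]

/-- The comparison map `M ⊗[A] Ext(Z, F) → Ext(Z, G)`. -/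
noncomputable def ΘL : M ⊗[A] EF D.toDatum Z n →ₗ[A] EG D.toDatum Z n :=
  TensorProduct.lift
    { toFun := fun m =>
        { toFun := fun x => Ext.comp (x : Ext Z F n) (Ext.mk₀ (D.θ m)) (add_zero n)
          map_add' := fun x y => Ext.add_comp _ _ _ _
          map_smul' := fun a x => by
            change Ext.comp (Ext.comp (x : Ext Z F n) (Ext.mk₀ (D.aF.ρ a)) (add_zero n))
                (Ext.mk₀ (D.θ m)) (add_zero n) =
              Ext.comp (Ext.comp (x : Ext Z F n) (Ext.mk₀ (D.θ m)) (add_zero n))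
                (Ext.mk₀ (D.aG.ρ (algebraMap A B a))) (add_zero n)
            rw [Ext.comp_assoc_of_third_deg_zero, Ext.comp_assoc_of_third_deg_zero,
              Ext.mk₀_comp_mk₀, Ext.mk₀_comp_mk₀, ← D.hA, D.hA'] }
      map_add' := fun m m' => by
        ext x
        change Ext.comp (x : Ext Z F n) (Ext.mk₀ (D.θ (m + m'))) (add_zero n) =
          Ext.comp (x : Ext Z F n) (Ext.mk₀ (D.θ m)) (add_zero n) +
            Ext.comp (x : Ext Z F n) (Ext.mk₀ (D.θ m')) (add_zero n)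
        rw [map_add, Ext.mk₀_add, Ext.comp_add]
      map_smul' := fun a m => by
        ext x
        change Ext.comp (x : Ext Z F n) (Ext.mk₀ (D.θ (a • m))) (add_zero n) =
          Ext.comp (Ext.comp (x : Ext Z F n) (Ext.mk₀ (D.θ m)) (add_zero n))
            (Ext.mk₀ (D.aG.ρ (algebraMap A B a))) (add_zero n)
        rw [Ext.comp_assoc_of_third_deg_zero, Ext.mk₀_comp_mk₀, D.hA'] }

lemma ΘL_tmul (m : M) (x : EF D.toDatum Z n) :
    ΘL D Z n (m ⊗ₜ[A] x) = Ext.comp (x : Ext Z F n) (Ext.mk₀ (D.θ m)) (add_zero n) := rfl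

lemma ΘL_smul_tmul (b : B) (m : M) (x : EF D.toDatum Z n) :
    ΘL D Z n ((b • m) ⊗ₜ[A] x) = b • ΘL D Z n (m ⊗ₜ[A] x) := by
  change Ext.comp (x : Ext Z F n) (Ext.mk₀ (D.θ (b • m))) (add_zero n) =
    Ext.comp (Ext.comp (x : Ext Z F n) (Ext.mk₀ (D.θ m)) (add_zero n))
      (Ext.mk₀ (D.aG.ρ b)) (add_zero n)
  rw [Ext.comp_assoc_of_third_deg_zero, Ext.mk₀_comp_mk₀, D.hB]

end

section pre2

variable (D : Datum2 A B M F G) {Z Z' : 𝒜} {k : ℕ} (α : Ext Z' Z k) {n n' : ℕ} (h : k + n = n')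

lemma pre_comm2 (m : M) (x : EF D.toDatum Z n) :
    (preG D.toDatum α h).restrictScalars A (ΘL D Z n (m ⊗ₜ[A] x)) =
      ΘL D Z' n' (m ⊗ₜ[A] preF D.toDatum α h x) := by
  change α.comp (Ext.comp (x : Ext Z F n) (Ext.mk₀ (D.θ m)) (add_zero n)) h =
    Ext.comp (α.comp (x : Ext Z F n) h) (Ext.mk₀ (D.θ m)) (add_zero n')
  rw [Ext.comp_assoc_of_third_deg_zero]

end pre2

/-- The tensor comparison property for `Z`. -/
def Q2 (D : Datum2 A B M F G) (Z : 𝒜) : Prop := ∀ n : ℕ, Function.Bijective (ΘL D Z n)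

variable [Module.Flat A M] (D : Datum2 A B M F G)

theorem Q2_X₃ {S : ShortComplex 𝒜} (hS : S.ShortExact) (h₁ : Q2 D S.X₁) (h₂ : Q2 D S.X₂) :
    Q2 D S.X₃ := by
  intro n
  cases n with
  | zero =>
    have : Epi S.g := hS.epi_g
    refine tp_left M (preF D.toDatum (Ext.mk₀ S.g) (zero_add 0))
      (preF D.toDatum (Ext.mk₀ S.f) (zero_add 0))
      ((preG D.toDatum (Ext.mk₀ S.g) (zero_add 0)).restrictScalars A)
      ((preG D.toDatum (Ext.mk₀ S.f) (zero_add 0)).restrictScalars A)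
      (ΘL D S.X₃ 0) (ΘL D S.X₂ 0) (ΘL D S.X₁ 0)
      (fun y => exact_g_f hS F 0 y) (fun y => exact_g_f hS G 0 y)
      (Ext.precomp_mk₀_injective_of_epi F S.g) (Ext.precomp_mk₀_injective_of_epi G S.g)
      (fun m x => pre_comm2 D _ _ m x) (fun m x => pre_comm2 D _ _ m x) (h₂ 0) (h₁ 0)
  | succ n =>
    exact tp_five M (preF D.toDatum (Ext.mk₀ S.f) (zero_add n))
      (preF D.toDatum hS.extClass (Nat.add_comm 1 n))
      (preF D.toDatum (Ext.mk₀ S.g) (zero_add (n + 1)))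
      (preF D.toDatum (Ext.mk₀ S.f) (zero_add (n + 1)))
      ((preG D.toDatum (Ext.mk₀ S.f) (zero_add n)).restrictScalars A)
      ((preG D.toDatum hS.extClass (Nat.add_comm 1 n)).restrictScalars A)
      ((preG D.toDatum (Ext.mk₀ S.g) (zero_add (n + 1))).restrictScalars A)
      ((preG D.toDatum (Ext.mk₀ S.f) (zero_add (n + 1))).restrictScalars A)
      (ΘL D S.X₂ n) (ΘL D S.X₁ n) (ΘL D S.X₃ (n + 1)) (ΘL D S.X₂ (n + 1)) (ΘL D S.X₁ (n + 1))
      (fun y => exact_f_δ hS F (Nat.add_comm 1 n) y) (fun y => exact_δ_g hS F (Nat.add_comm 1 n) y)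
      (fun y => exact_g_f hS F _ y)
      (fun y => exact_f_δ hS G (Nat.add_comm 1 n) y) (fun y => exact_δ_g hS G (Nat.add_comm 1 n) y)
      (fun y => exact_g_f hS G _ y)
      (fun m x => pre_comm2 D _ _ m x) (fun m x => pre_comm2 D _ _ m x)
      (fun m x => pre_comm2 D _ _ m x) (fun m x => pre_comm2 D _ _ m x)
      (h₂ n) (h₁ n) (h₂ (n + 1)) (h₁ (n + 1))

theorem Q2_X₂ {S : ShortComplex 𝒜} (hS : S.ShortExact) (h₁ : Q2 D S.X₁) (h₃ : Q2 D S.X₃) :
    Q2 D S.X₂ := by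
  intro n
  cases n with
  | zero =>
    have : Epi S.g := hS.epi_g
    refine tp_five M (0 : PUnit.{1} →ₗ[A] EF D.toDatum S.X₃ 0)
      (preF D.toDatum (Ext.mk₀ S.g) (zero_add 0))
      (preF D.toDatum (Ext.mk₀ S.f) (zero_add 0)) (preF D.toDatum hS.extClass (Nat.add_comm 1 0))
      (0 : PUnit.{1} →ₗ[A] EG D.toDatum S.X₃ 0)
      ((preG D.toDatum (Ext.mk₀ S.g) (zero_add 0)).restrictScalars A)
      ((preG D.toDatum (Ext.mk₀ S.f) (zero_add 0)).restrictScalars A)
      ((preG D.toDatum hS.extClass (Nat.add_comm 1 0)).restrictScalars A)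
      (0 : M ⊗[A] PUnit.{1} →ₗ[A] PUnit.{1}) (ΘL D S.X₃ 0) (ΘL D S.X₂ 0) (ΘL D S.X₁ 0)
      (ΘL D S.X₃ 1)
      ?_ (fun y => exact_g_f hS F _ y) (fun y => exact_f_δ hS F (Nat.add_comm 1 0) y)
      ?_ (fun y => exact_g_f hS G _ y) (fun y => exact_f_δ hS G (Nat.add_comm 1 0) y)
      (fun m x => ?_) (fun m x => pre_comm2 D _ _ m x) (fun m x => pre_comm2 D _ _ m x)
      (fun m x => pre_comm2 D _ _ m x) (tp_bijective_of_subsingleton M _) (h₃ 0) (h₁ 0) (h₃ 1)
    · intro y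
      constructor
      · intro hy
        refine ⟨0, ?_⟩
        exact (Ext.precomp_mk₀_injective_of_epi F S.g
          (hy.trans (map_zero (preF D.toDatum (Ext.mk₀ S.g) (zero_add 0))).symm)).symm
      · rintro ⟨x, rfl⟩
        exact map_zero _
    · intro y
      constructor
      · intro hy
        refine ⟨0, ?_⟩
        exact (Ext.precomp_mk₀_injective_of_epi G S.g
          (hy.trans (map_zero (preG D.toDatum (Ext.mk₀ S.g) (zero_add 0))).symm)).symm
      · rintro ⟨x, rfl⟩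
        exact map_zero _
    · have hx : x = 0 := Subsingleton.elim _ _
      rw [hx, TensorProduct.tmul_zero, map_zero, map_zero]
      rw [TensorProduct.tmul_zero, map_zero]
  | succ n =>
    exact tp_five M (preF D.toDatum hS.extClass (Nat.add_comm 1 n))
      (preF D.toDatum (Ext.mk₀ S.g) (zero_add (n + 1)))
      (preF D.toDatum (Ext.mk₀ S.f) (zero_add (n + 1)))
      (preF D.toDatum hS.extClass (Nat.add_comm 1 (n + 1)))
      ((preG D.toDatum hS.extClass (Nat.add_comm 1 n)).restrictScalars A)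
      ((preG D.toDatum (Ext.mk₀ S.g) (zero_add (n + 1))).restrictScalars A)
      ((preG D.toDatum (Ext.mk₀ S.f) (zero_add (n + 1))).restrictScalars A)
      ((preG D.toDatum hS.extClass (Nat.add_comm 1 (n + 1))).restrictScalars A)
      (ΘL D S.X₁ n) (ΘL D S.X₃ (n + 1)) (ΘL D S.X₂ (n + 1)) (ΘL D S.X₁ (n + 1))
      (ΘL D S.X₃ (n + 1 + 1))
      (fun y => exact_δ_g hS F (Nat.add_comm 1 n) y) (fun y => exact_g_f hS F _ y)
      (fun y => exact_f_δ hS F (Nat.add_comm 1 (n + 1)) y)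
      (fun y => exact_δ_g hS G (Nat.add_comm 1 n) y) (fun y => exact_g_f hS G _ y)
      (fun y => exact_f_δ hS G (Nat.add_comm 1 (n + 1)) y)
      (fun m x => pre_comm2 D _ _ m x) (fun m x => pre_comm2 D _ _ m x)
      (fun m x => pre_comm2 D _ _ m x) (fun m x => pre_comm2 D _ _ m x)
      (h₁ n) (h₃ (n + 1)) (h₁ (n + 1)) (h₃ (n + 1 + 1))

theorem Q2_biprod {Z₁ Z₂ : 𝒜} (h₁ : Q2 D Z₁) (h₂ : Q2 D Z₂) : Q2 D (Z₁ ⊞ Z₂) :=
  Q2_X₂ D (S := ShortComplex.mk (biprod.inl : Z₁ ⟶ Z₁ ⊞ Z₂) biprod.snd biprod.inl_snd)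
    (ShortComplex.Splitting.ofHasBinaryBiproduct Z₁ Z₂).shortExact h₁ h₂

end Groth.Agent.Lib.Helper22.FBC
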