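import Groth.Agent.Lib.Helper22.FBC.ExtMod

/-!
# Base change of `Ext` groups along a finite projective ring map (helper22)

If `B` has a finite dual basis `(b j, s j)` over `A` and the semilinear morphism `η : F ⟶ G`
admits "coordinate" morphisms `σ j : G ⟶ F`, then `B ⊗[A] Ext^n(Z, F) ≃ Ext^n(Z, G)` for all `Z`.
-/

set_option autoImplicit false
set_option linter.unusedSectionVars false

universe w v u

open CategoryTheory CategoryTheory.Limits CategoryTheory.Abelian TensorProduct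

namespace Groth.Agent.Lib.Helper22.FBC

variable {𝒜 : Type u} [Category.{v} 𝒜] [Abelian 𝒜] [HasExt.{w} 𝒜]
variable {A B : Type*} [CommRing A] [CommRing B] [Algebra A B] {F G : 𝒜}

lemma ext_comp_mk₀_sum {ι : Type*} (s : Finset ι) {Z Y Y' : 𝒜} {n : ℕ} (y : Ext Z Y n)
    (φ : ι → (Y ⟶ Y')) :
    y.comp (Ext.mk₀ (∑ j ∈ s, φ j)) (add_zero n) = ∑ j ∈ s, y.comp (Ext.mk₀ (φ j)) (add_zero n) := by
  classical
  induction s using Finset.induction_on with
  | empty => simp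
  | insert a s ha ih =>
    rw [Finset.sum_insert ha, Finset.sum_insert ha, Ext.mk₀_add, Ext.comp_add, ih]

/-- Postcomposition with a morphism `G ⟶ F`. -/
noncomputable def postGF (D : Datum A B F G) (σ : G ⟶ F) (Z : 𝒜) (n : ℕ) :
    EG D Z n →+ EF D Z n where
  toFun y := Ext.comp (y : Ext Z G n) (Ext.mk₀ σ) (add_zero n)
  map_zero' := Ext.zero_comp _ _ _ _ _
  map_add' _ _ := Ext.add_comp _ _ _ _

theorem isBC_of_coordinates (D : Datum A B F G) {ι : Type*} [Fintype ι] (b : ι → B)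
    (s : ι → (B →ₗ[A] A)) (hbs : ∀ x : B, ∑ j, s j x • b j = x)
    (σ : ι → (G ⟶ F))
    (h₁ : ∑ j, σ j ≫ D.η ≫ D.aG.ρ (b j) = 𝟙 G)
    (h₂ : ∀ (j : ι) (x : B), D.η ≫ D.aG.ρ x ≫ σ j = D.aF.ρ (s j x))
    (Z : 𝒜) (n : ℕ) : IsBC B (ηL D Z n) := by
  classical
  let Ψ : EG D Z n → B ⊗[A] EF D Z n := fun y => ∑ j, b j ⊗ₜ[A] postGF D (σ j) Z n y
  have hΨadd : ∀ y y', Ψ (y + y') = Ψ y + Ψ y' := by
    intro y y'
    change ∑ j, b j ⊗ₜ[A] postGF D (σ j) Z n (y + y') = _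
    rw [← Finset.sum_add_distrib]
    refine Finset.sum_congr rfl fun j _ => ?_
    rw [map_add, TensorProduct.tmul_add]
  have hΨ0 : Ψ 0 = 0 := by
    have := hΨadd 0 0
    rw [add_zero] at this
    exact left_eq_add.mp this
  have hlift : ∀ (x : B) (e : EF D Z n),
      (ηL D Z n).liftBaseChange B (x ⊗ₜ[A] e) = x • ηL D Z n e :=
    fun x e => LinearMap.liftBaseChange_tmul _ _ _ _
  -- `lift ∘ Ψ = id`
  have h1 : ∀ y : EG D Z n, (ηL D Z n).liftBaseChange B (Ψ y) = y := by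
    intro y
    change (ηL D Z n).liftBaseChange B (∑ j, b j ⊗ₜ[A] postGF D (σ j) Z n y) = y
    rw [map_sum]
    have : ∀ j, (ηL D Z n).liftBaseChange B (b j ⊗ₜ[A] postGF D (σ j) Z n y) =
        Ext.comp (y : Ext Z G n) (Ext.mk₀ (σ j ≫ D.η ≫ D.aG.ρ (b j))) (add_zero n) := by
      intro j
      rw [hlift]
      change Ext.comp (Ext.comp (Ext.comp (y : Ext Z G n) (Ext.mk₀ (σ j)) (add_zero n))
        (Ext.mk₀ D.η) (add_zero n)) (Ext.mk₀ (D.aG.ρ (b j))) (add_zero n) = _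
      rw [Ext.comp_assoc_of_third_deg_zero, Ext.comp_assoc_of_third_deg_zero,
        Ext.mk₀_comp_mk₀, Ext.mk₀_comp_mk₀]
    rw [Finset.sum_congr rfl fun j _ => this j]
    have h3 := ext_comp_mk₀_sum Finset.univ (y : Ext Z G n) (fun j => σ j ≫ D.η ≫ D.aG.ρ (b j))
    rw [h₁, Ext.comp_mk₀_id] at h3
    exact h3.symm
  -- `Ψ ∘ lift = id`
  have h2 : ∀ t : B ⊗[A] EF D Z n, Ψ ((ηL D Z n).liftBaseChange B t) = t := by
    intro t
    induction t using TensorProduct.induction_on with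
    | zero => rw [map_zero, hΨ0]
    | add t t' ht ht' => rw [map_add, hΨadd, ht, ht']
    | tmul x e =>
      rw [hlift]
      have : ∀ j, postGF D (σ j) Z n (x • ηL D Z n e) = s j x • e := by
        intro j
        change Ext.comp (Ext.comp (Ext.comp (e : Ext Z F n) (Ext.mk₀ D.η) (add_zero n))
          (Ext.mk₀ (D.aG.ρ x)) (add_zero n)) (Ext.mk₀ (σ j)) (add_zero n) =
          Ext.comp (e : Ext Z F n) (Ext.mk₀ (D.aF.ρ (s j x))) (add_zero n)
        rw [Ext.comp_assoc_of_third_deg_zero, Ext.comp_assoc_of_third_deg_zero,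
          Ext.mk₀_comp_mk₀, Ext.mk₀_comp_mk₀, h₂]
      change ∑ j, b j ⊗ₜ[A] postGF D (σ j) Z n (x • ηL D Z n e) = _
      rw [Finset.sum_congr rfl fun j _ => congrArg (fun z => b j ⊗ₜ[A] z) (this j)]
      have h4 : ∀ j, b j ⊗ₜ[A] (s j x • e) = (s j x • b j) ⊗ₜ[A] e := fun j =>
        (TensorProduct.smul_tmul (s j x) (b j) e).symm
      rw [Finset.sum_congr rfl fun j _ => h4 j, ← TensorProduct.sum_tmul, hbs]
  constructor
  · intro t t' htt'
    rw [← h2 t, ← h2 t', htt']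
  · intro y
    exact ⟨Ψ y, h1 y⟩

end Groth.Agent.Lib.Helper22.FBC
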