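import Groth.Agent.Lib.Helper22.FBC.Geom
import Groth.Agent.Lib.Helper22.FBC.Retract

set_option autoImplicit false
set_option linter.unusedSectionVars false

universe u

open CategoryTheory CategoryTheory.Limits AlgebraicGeometry TopologicalSpace Opposite Abelian
open TensorProduct

namespace Groth.Agent.Lib.Helper22.FBC

open _root_.Groth.Agent.Lib.Helper22.CohTop _root_.Groth.Agent.Lib.Helper22.ExtCompare
open _root_.Groth.Agent.Lib.Helper29.QCoh

section abstractE

variable {𝒜 : Type*} [Category 𝒜] [Abelian 𝒜] [HasExt.{u} 𝒜]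
variable {A B : Type u} [CommRing A] [CommRing B] [Algebra A B] {F G : 𝒜}
  (D : Datum A B F G) (Z : 𝒜) (n : ℕ)

/-- Induction principle for `Ext(Z, G)` when it is the base change of `Ext(Z, F)`. -/
lemma EG_induction (hQ : IsBC B (ηL D Z n)) {P : EG D Z n → Prop} (h0 : P 0)
    (hadd : ∀ y y', P y → P y' → P (y + y'))
    (hgen : ∀ (x : B) (e : EF D Z n), P (x • ηL D Z n e)) : ∀ y, P y := by
  intro y
  obtain ⟨t, rfl⟩ := hQ.2 y
  induction t using TensorProduct.induction_on with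
  | zero => rw [map_zero]; exact h0
  | add t t' ht ht' => rw [map_add]; exact hadd _ _ ht ht'
  | tmul x e => rw [LinearMap.liftBaseChange_tmul]; exact hgen x e

/-- The coordinate map `Ext(Z, G) → Ext(Z, F)` attached to a functional `s : B → A`. -/
noncomputable def coordE (hQ : IsBC B (ηL D Z n)) (s : B →ₗ[A] A) : EG D Z n →+ EF D Z n :=
  ((TensorProduct.lid A (EF D Z n)).toLinearMap.comp (s.rTensor (EF D Z n))).toAddMonoidHom.comp
    ((LinearEquiv.ofBijective _ hQ).symm :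
      EG D Z n ≃ₗ[B] B ⊗[A] EF D Z n).toLinearMap.toAddMonoidHom

lemma coordE_smul_ηL (hQ : IsBC B (ηL D Z n)) (s : B →ₗ[A] A) (x : B) (e : EF D Z n) :
    coordE D Z n hQ s (x • ηL D Z n e) = s x • e := by
  have h1 : (LinearEquiv.ofBijective _ hQ).symm (x • ηL D Z n e) = x ⊗ₜ[A] e := by
    rw [LinearEquiv.symm_apply_eq]
    exact (LinearMap.liftBaseChange_tmul _ _ _ _).symm
  change (TensorProduct.lid A (EF D Z n)) ((s.rTensor (EF D Z n))
    ((LinearEquiv.ofBijective _ hQ).symm (x • ηL D Z n e))) = _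
  rw [h1, LinearMap.rTensor_tmul, TensorProduct.lid_tmul]


lemma coordE_pre {Z' : 𝒜} {m n' : ℕ} (α : Ext Z' Z m) (h : m + n = n')
    (hQ : IsBC B (ηL D Z n)) (hQ' : IsBC B (ηL D Z' n')) (s : B →ₗ[A] A) (y : EG D Z n) :
    coordE D Z' n' hQ' s (preG D α h y) = preF D α h (coordE D Z n hQ s y) := by
  induction y using EG_induction D Z n hQ with
  | h0 => simp only [map_zero]
  | hadd y y' hy hy' => simp only [map_add, hy, hy']
  | hgen x e =>
    rw [map_smul, pre_comm, coordE_smul_ηL, coordE_smul_ηL, map_smul]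

lemma sum_smul_ηL_coordE (hQ : IsBC B (ηL D Z n)) {ι : Type*} [Fintype ι] (b : ι → B)
    (s : ι → (B →ₗ[A] A)) (hbs : ∀ x : B, ∑ j, s j x • b j = x) (z : EG D Z n) :
    ∑ j, b j • ηL D Z n (coordE D Z n hQ (s j) z) = z := by
  induction z using EG_induction D Z n hQ with
  | h0 => simp only [map_zero, smul_zero, Finset.sum_const_zero]
  | hadd y y' hy hy' =>
    simp only [map_add, smul_add, Finset.sum_add_distrib, hy, hy']
  | hgen x e =>
    have : ∀ j, b j • ηL D Z n (coordE D Z n hQ (s j) (x • ηL D Z n e)) =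
        (s j x • b j) • ηL D Z n e := by
      intro j
      rw [coordE_smul_ηL, map_smul, smul_comm, smul_assoc]
    rw [Finset.sum_congr rfl fun j _ => this j, ← Finset.sum_smul, hbs]

end abstractE


section sections

variable {A B : Type u} [CommRing A] [CommRing B] [Algebra A B]
variable {T : TopCat.{u}}

lemma sectEquiv_pre {U V : Opens T} (i : V ⟶ U) (G : CohTop.Ab T) (x : Ext (ZU U) G 0) :
    sectEquiv V G ((Ext.mk₀ ((freeSheafFunctor T).map i)).comp x (zero_add 0)) =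
      (G.obj.map i.op).hom (sectEquiv U G x) := by
  obtain ⟨φ, rfl⟩ := Ext.addEquiv₀.symm.surjective x
  have h3 : Ext.addEquiv₀ ((Ext.mk₀ ((freeSheafFunctor T).map i)).comp (Ext.addEquiv₀.symm φ)
      (zero_add 0)) = (freeSheafFunctor T).map i ≫ φ := by
    change Ext.addEquiv₀ ((Ext.mk₀ ((freeSheafFunctor T).map i)).comp (Ext.mk₀ φ) (zero_add 0)) = _
    rw [Ext.mk₀_comp_mk₀]
    exact Ext.addEquiv₀.apply_symm_apply _
  simp only [sectEquiv, AddEquiv.trans_apply, AddEquiv.apply_symm_apply,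
    homAddEquivSections_apply]
  rw [h3, homEquivSections_naturality_left]

variable {F G : CohTop.Ab T} (D : Datum A B F G) (Bs : Set (Opens T))
  (hQ : ∀ U ∈ Bs, IsBC B (ηL D (ZU U) 0))

/-- The coordinate map on sections over a basic open. -/
noncomputable def coordSec (U : Opens T) (hU : U ∈ Bs) (s : B →ₗ[A] A) :
    G.obj.obj (op U) →+ F.obj.obj (op U) :=
  (sectEquiv U F).toAddMonoidHom.comp
    ((coordE D (ZU U) 0 (hQ U hU) s).comp (sectEquiv U G).symm.toAddMonoidHom)

lemma coordSec_sectEquiv (U : Opens T) (hU : U ∈ Bs) (s : B →ₗ[A] A) (z : EG D (ZU U) 0) :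
    coordSec D Bs hQ U hU s (sectEquiv U G z) = sectEquiv U F (coordE D (ZU U) 0 (hQ U hU) s z) := by
  change sectEquiv U F (coordE D (ZU U) 0 (hQ U hU) s ((sectEquiv U G).symm (sectEquiv U G z))) = _
  rw [AddEquiv.symm_apply_apply]

lemma coordSec_natural {U V : Opens T} (hU : U ∈ Bs) (hV : V ∈ Bs) (i : V ⟶ U) (s : B →ₗ[A] A)
    (y : G.obj.obj (op U)) :
    coordSec D Bs hQ V hV s ((G.obj.map i.op).hom y) =
      (F.obj.map i.op).hom (coordSec D Bs hQ U hU s y) := by
  obtain ⟨z, rfl⟩ := (sectEquiv U G).surjective y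
  rw [← sectEquiv_pre i G z]
  have h1 := coordSec_sectEquiv D Bs hQ V hV s
    (preG D (Ext.mk₀ ((freeSheafFunctor T).map i)) (zero_add 0) z)
  have h2 := coordE_pre D (ZU U) 0 (Ext.mk₀ ((freeSheafFunctor T).map i)) (zero_add 0)
    (hQ U hU) (hQ V hV) s z
  rw [h2] at h1
  refine h1.trans ?_
  rw [coordSec_sectEquiv]
  exact sectEquiv_pre i F _


/-- The coordinate maps on the basis, as a natural transformation. -/
noncomputable def coordNat (s : B →ₗ[A] A) :
    (inducedFunctor (Subtype.val : ↥Bs → Opens T)).op ⋙ G.obj ⟶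
      (inducedFunctor (Subtype.val : ↥Bs → Opens T)).op ⋙ F.obj where
  app i := AddCommGrpCat.ofHom (coordSec D Bs hQ i.unop.1 i.unop.2 s)
  naturality i j φ := by
    ext y
    exact coordSec_natural D Bs hQ i.unop.2 j.unop.2
      ((inducedFunctor (Subtype.val : ↥Bs → Opens T)).map φ.unop) s y

/-- The coordinate morphism `G ⟶ F` of sheaves. -/
noncomputable def coordHom (hB : Opens.IsBasis Bs) (s : B →ₗ[A] A) : G ⟶ F :=
  ⟨TopCat.Sheaf.restrictHomEquivHom G.obj F
    (by rw [Subtype.range_coe]; exact hB) (coordNat D Bs hQ s)⟩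

lemma coordHom_app (hB : Opens.IsBasis Bs) (s : B →ₗ[A] A) (U : Opens T) (hU : U ∈ Bs)
    (y : G.obj.obj (op U)) :
    ((coordHom D Bs hQ hB s).hom.app (op U)).hom y = coordSec D Bs hQ U hU s y := by
  have h := TopCat.Sheaf.extend_hom_app G.obj F
    (B := (Subtype.val : ↥Bs → Opens T)) (by rw [Subtype.range_coe]; exact hB)
    (coordNat D Bs hQ s) ⟨U, hU⟩
  exact congrArg (fun k => k.hom y) h


omit [Algebra A B] in
lemma hom_ext_basis (hB : Opens.IsBasis Bs) {P Q : CohTop.Ab T} {α β : P ⟶ Q}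
    (h : ∀ U ∈ Bs, ∀ y : P.obj.obj (op U),
      (α.hom.app (op U)).hom y = (β.hom.app (op U)).hom y) : α = β := by
  apply Sheaf.hom_ext
  refine TopCat.Sheaf.hom_ext P.obj Q (B := (Subtype.val : ↥Bs → Opens T))
    (by rw [Subtype.range_coe]; exact hB) ?_
  intro i
  ext y
  exact h i.1 i.2 y

lemma sum_hom_app {ι : Type*} (S : Finset ι) {P Q : CohTop.Ab T} (φ : ι → (P ⟶ Q))
    (V : (Opens T)ᵒᵖ) (y : P.obj.obj V) :
    ((∑ j ∈ S, φ j).hom.app V).hom y = ∑ j ∈ S, ((φ j).hom.app V).hom y := by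
  classical
  induction S using Finset.induction_on with
  | empty =>
    simp only [Finset.sum_empty]
    rfl
  | insert a S ha ih =>
    rw [Finset.sum_insert ha, Finset.sum_insert ha, Sheaf.Hom.add_app, ← ih]
    rfl

theorem coordHom_spec₂ (hB : Opens.IsBasis Bs) (s : B →ₗ[A] A) (x : B) :
    D.η ≫ D.aG.ρ x ≫ coordHom D Bs hQ hB s = D.aF.ρ (s x) := by
  refine hom_ext_basis Bs hB fun U hU m => ?_
  obtain ⟨e, rfl⟩ := (sectEquiv U F).surjective m
  change ((coordHom D Bs hQ hB s).hom.app (op U)).hom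
    (((D.aG.ρ x).hom.app (op U)).hom ((D.η.hom.app (op U)).hom (sectEquiv U F e))) = _
  rw [← sectEquiv_comp U D.η e, ← sectEquiv_comp U (D.aG.ρ x), coordHom_app D Bs hQ hB s U hU]
  have h1 := coordSec_sectEquiv D Bs hQ U hU s (x • ηL D (ZU U) 0 e)
  rw [coordE_smul_ηL] at h1
  refine h1.trans ?_
  exact sectEquiv_comp U (D.aF.ρ (s x)) e

theorem coordHom_spec₁ (hB : Opens.IsBasis Bs) {ι : Type*} [Fintype ι] (b : ι → B)
    (s : ι → (B →ₗ[A] A)) (hbs : ∀ x : B, ∑ j, s j x • b j = x) :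
    ∑ j, coordHom D Bs hQ hB (s j) ≫ D.η ≫ D.aG.ρ (b j) = 𝟙 G := by
  refine hom_ext_basis Bs hB fun U hU y => ?_
  obtain ⟨z, rfl⟩ := (sectEquiv U G).surjective y
  rw [sum_hom_app]
  have : ∀ j, ((coordHom D Bs hQ hB (s j) ≫ D.η ≫ D.aG.ρ (b j)).hom.app (op U)).hom
      (sectEquiv U G z) =
      sectEquiv U G (b j • ηL D (ZU U) 0 (coordE D (ZU U) 0 (hQ U hU) (s j) z)) := by
    intro j
    change ((D.aG.ρ (b j)).hom.app (op U)).hom ((D.η.hom.app (op U)).hom
      (((coordHom D Bs hQ hB (s j)).hom.app (op U)).hom (sectEquiv U G z))) = _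
    rw [coordHom_app D Bs hQ hB (s j) U hU, coordSec_sectEquiv, ← sectEquiv_comp U D.η,
      ← sectEquiv_comp U (D.aG.ρ (b j))]
    rfl
  rw [Finset.sum_congr rfl fun j _ => this j, ← map_sum]
  have hz := sum_smul_ηL_coordE D (ZU U) 0 (hQ U hU) b s hbs (z : EG D (ZU U) 0)
  exact congrArg (sectEquiv U G) hz

end sections

end Groth.Agent.Lib.Helper22.FBC
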