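import Groth.Agent.Lib.Helper22.FBC.Main2
import Groth.Agent.Lib.Helper22.FBC.FinProj

set_option autoImplicit false
set_option linter.unusedSectionVars false

universe u

open CategoryTheory CategoryTheory.Limits AlgebraicGeometry TopologicalSpace Opposite Abelian
open TensorProduct

namespace Groth.Agent.Lib.Helper22.FBC

open _root_.Groth.Agent.Lib.Helper22.CohTop _root_.Groth.Agent.Lib.Helper22.ExtCompare
open _root_.Groth.Agent.Lib.Helper29.QCoh

/-- A finite dual basis of a finite projective module. -/
lemma exists_dual_basis (A B : Type*) [CommRing A] [AddCommGroup B] [Module A B]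
    [Module.Finite A B] [Module.Projective A B] :
    ∃ (n : ℕ) (b : Fin n → B) (s : Fin n → (B →ₗ[A] A)), ∀ x : B, ∑ j, s j x • b j = x := by
  obtain ⟨n, fB, gB, -, -, hfg⟩ := Module.Finite.exists_comp_eq_id_of_projective A B
  refine ⟨n, fun j => fB (Pi.single j 1), fun j => (LinearMap.proj j).comp gB, fun x => ?_⟩
  have h1 : fB (gB x) = x := congrArg (fun k => k x) hfg
  conv_rhs => rw [← h1, LinearMap.pi_apply_eq_sum_univ fB (gB x)]
  refine Finset.sum_congr rfl fun j _ => ?_
  have h2 : (Pi.single j (1 : A) : Fin n → A) = fun k => if j = k then 1 else 0 := by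
    funext k
    by_cases hjk : j = k
    · subst hjk; simp
    · rw [if_neg hjk, Pi.single_apply, if_neg (fun h => hjk h.symm)]
  change gB x j • fB (Pi.single j 1) = _
  rw [h2]

/-- **Base change along a finite locally free ring map.** -/
theorem finproj_base_change (A B : Type u) [CommRing A] [CommRing B] [Algebra A B]
    [Module.Finite A B] [Module.Projective A B] (X X' : Scheme.{u})
    [X.Over (Spec (CommRingCat.of A))] [X'.Over (Spec (CommRingCat.of B))] (g' : X' ⟶ X)
    (h : IsPullback g' (X' ↘ Spec (CommRingCat.of B)) (X ↘ Spec (CommRingCat.of A))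
      (Spec.map (CommRingCat.ofHom (algebraMap A B))))
    (M : X.Modules) [M.IsQuasicoherent] (i : ℕ) :
    Nonempty (B ⊗[A] (Coh.HH X M i) ≃ₗ[B]
      Coh.HH X' ((Scheme.Modules.pullback g').obj M) i) := by
  have : IsAffineHom g' :=
    MorphismProperty.of_isPullback (P := @IsAffineHom) h.flip inferInstance
  obtain ⟨n, b, s, hbs⟩ := exists_dual_basis A B
  have hQaff : ∀ U ∈ (X.affineOpens : Set X.Opens),
      IsBC B (ηL (datum (X ↘ Spec (CommRingCat.of A)) (X' ↘ Spec (CommRingCat.of B)) g' M h.w)
        (ZU U) 0) :=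
    fun U hU => Q_affine _ _ g' M h U hU 0
  have hB : Opens.IsBasis (X.affineOpens : Set X.Opens) := X.isBasis_affineOpens
  have hQ := isBC_of_coordinates
    (datum (X ↘ Spec (CommRingCat.of A)) (X' ↘ Spec (CommRingCat.of B)) g' M h.w) b s hbs
    (fun j => coordHom _ _ hQaff hB (s j)) (coordHom_spec₁ _ _ hQaff hB b s hbs)
    (fun j x => coordHom_spec₂ _ _ hQaff hB (s j) x) (ZU (⊤ : X.Opens)) i
  exact nonempty_linearEquiv_of_isBC A B X X' g' h M i hQ

end Groth.Agent.Lib.Helper22.FBC
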