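import Groth.Agent.Lib.Helper22.FBC.ExtMod
import Groth.Agent.Lib.Helper22.FBC.AlgPO
import Groth.Agent.Lib.Helper22.QcqsInduction
import Groth.Agent.Lib.Helper22.Cech.AffineMorphism
import Groth.Agent.Lib.Helper22.ExtCompareNat
import Groth.Agent.Helper19.PullUnit
import Groth.Agent.Lib.Helper29.QCohPush
import Mathlib.Topology.Sheaves.MayerVietoris
import Mathlib.CategoryTheory.Sites.SheafCohomology.MayerVietoris

set_option autoImplicit false
set_option linter.unusedSectionVars false

universe u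

open CategoryTheory CategoryTheory.Limits AlgebraicGeometry TopologicalSpace Opposite Abelian

namespace Groth.Agent.Lib.Helper22.FBC

open _root_.Groth.Agent.Lib.Helper22.CohTop _root_.Groth.Agent.Lib.Helper22.ExtCompare
open _root_.Groth.Agent.Lib.Helper29.QCoh

variable {A B : Type u} [CommRing A] [CommRing B] [Algebra A B]
  {X X' : Scheme.{u}} (f : X ⟶ Spec (CommRingCat.of A)) (f' : X' ⟶ Spec (CommRingCat.of B))
  (g' : X' ⟶ X) (M : X.Modules)

/-- The `A`-action on the abelian sheaf of `M`. -/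
noncomputable def actF : Act A (Coh.toAb M) where
  ρ a := Coh.smulAb M (Coh.toGlobal f a)
  map_one := by rw [map_one, Coh.smulAb_one]
  map_mul r s := by rw [map_mul, Coh.smulAb_mul]
  map_add r s := by rw [map_add, Coh.smulAb_add]

/-- The `B`-action on `g'_* g'^* M`. -/
noncomputable def actG :
    Act B ((Coh.pushAb g').obj (Coh.toAb ((Scheme.Modules.pullback g').obj M))) where
  ρ b := (Coh.pushAb g').map (Coh.smulAb _ (Coh.toGlobal f' b))
  map_one := by rw [map_one, Coh.smulAb_one, CategoryTheory.Functor.map_id]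
  map_mul r s := by rw [map_mul, Coh.smulAb_mul, CategoryTheory.Functor.map_comp]
  map_add r s := by rw [map_add, Coh.smulAb_add, CategoryTheory.Functor.map_add]

/-- The unit `M → g'_* g'^* M` on abelian sheaves. -/
noncomputable def ηAb :
    Coh.toAb M ⟶ (Coh.pushAb g').obj (Coh.toAb ((Scheme.Modules.pullback g').obj M)) :=
  (SheafOfModules.toSheaf _).map ((Scheme.Modules.pullbackPushforwardAdjunction g').unit.app M)

lemma ηAb_app (U : X.Opens) (m : Γ(M, U)) :
    ((ηAb g' M).hom.app (op U)).hom m = pullSect g' M U m := rfl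


/-- `A → Γ(X, U)`. -/
noncomputable def αU (U : X.Opens) : CommRingCat.of A ⟶ Γ(X, U) :=
  (Scheme.ΓSpecIso (CommRingCat.of A)).inv ≫ f.appLE ⊤ U le_top

lemma αU_hom (U : X.Opens) (a : A) :
    (αU f U).hom a = Coh.resTop X (op U) (Coh.toGlobal f a) := rfl

lemma appLE_congr_hom {S : Scheme.{u}} {k₁ k₂ : X' ⟶ S} (h : k₁ = k₂) (U : S.Opens) (V : X'.Opens)
    (e : V ≤ k₁ ⁻¹ᵁ U) : k₁.appLE U V e = k₂.appLE U V (h ▸ e) := by
  subst h; rfl

lemma sq_comm (hw : g' ≫ f = f' ≫ Spec.map (CommRingCat.ofHom (algebraMap A B))) (U : X.Opens) :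
    αU f U ≫ g'.app U = CommRingCat.ofHom (algebraMap A B) ≫ αU f' (g' ⁻¹ᵁ U) := by
  unfold αU
  rw [Category.assoc, Scheme.Hom.app_eq_appLE, Scheme.Hom.appLE_comp_appLE,
    appLE_congr_hom hw, ← Scheme.Hom.appLE_comp_appLE _ _ ⊤ ⊤ (g' ⁻¹ᵁ U) le_top le_top,
    ← Category.assoc, ← Category.assoc]
  congr 1
  exact (Scheme.ΓSpecIso_inv_naturality (CommRingCat.ofHom (algebraMap A B))).symm


/-- The semilinear datum `M → g'_* g'^* M`. -/
noncomputable def datum (hw : g' ≫ f = f' ≫ Spec.map (CommRingCat.ofHom (algebraMap A B))) :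
    Datum A B (Coh.toAb M)
      ((Coh.pushAb g').obj (Coh.toAb ((Scheme.Modules.pullback g').obj M))) where
  aF := actF f M
  aG := actG f' g' M
  η := ηAb g' M
  compat a := by
    ext U m
    obtain ⟨U⟩ := U
    change pullSect g' M U ((αU f U).hom a • (show Γ(M, U) from m)) =
      (αU f' (g' ⁻¹ᵁ U)).hom (algebraMap A B a) • pullSect g' M U (show Γ(M, U) from m)
    rw [pullSect_smul]
    have h := congrArg (fun k => k.hom a) (sq_comm f f' g' hw U)
    exact congrArg (fun r => r • pullSect g' M U (show Γ(M, U) from m)) h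


section sect

variable {T : TopCat.{u}}

/-- `Ext⁰(ℤ_U, G) ≃ G(U)`. -/
noncomputable def sectEquiv (U : Opens T) (G : CohTop.Ab T) :
    Ext (ZU U) G 0 ≃+ G.obj.obj (op U) :=
  Ext.addEquiv₀.trans (homAddEquivSections U G)

lemma sectEquiv_comp (U : Opens T) {G G' : CohTop.Ab T} (g : G ⟶ G') (x : Ext (ZU U) G 0) :
    sectEquiv U G' (x.comp (Ext.mk₀ g) (add_zero 0)) =
      (g.hom.app (op U)).hom (sectEquiv U G x) := by
  obtain ⟨φ, rfl⟩ := Ext.addEquiv₀.symm.surjective x
  have h3 : Ext.addEquiv₀ ((Ext.addEquiv₀.symm φ).comp (Ext.mk₀ g) (add_zero 0)) = φ ≫ g := by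
    change Ext.addEquiv₀ ((Ext.mk₀ φ).comp (Ext.mk₀ g) (add_zero 0)) = φ ≫ g
    rw [Ext.mk₀_comp_mk₀]
    exact Ext.addEquiv₀.apply_symm_apply _
  simp only [sectEquiv, AddEquiv.trans_apply, AddEquiv.apply_symm_apply,
    homAddEquivSections_apply]
  rw [h3, homEquivSections_naturality_right]

end sect

section main

variable (hw : g' ≫ f = f' ≫ Spec.map (CommRingCat.ofHom (algebraMap A B)))

lemma isPushout_sections
    (H : IsPullback g' f' f (Spec.map (CommRingCat.ofHom (algebraMap A B))))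
    (U : X.Opens) (hU : IsAffineOpen U) :
    IsPushout (αU f U) (CommRingCat.ofHom (algebraMap A B)) (g'.appLE U (g' ⁻¹ᵁ U) le_rfl)
      (αU f' (g' ⁻¹ᵁ U)) := by
  have hUY : g' ⁻¹ᵁ U = g' ⁻¹ᵁ U ⊓ f' ⁻¹ᵁ ⊤ := by simp
  have h1 := (isIso_pushoutSection_iff H (US := ⊤) (UT := ⊤) (UX := U) le_top le_top hUY).mp
    (isIso_pushoutSection_of_isAffineOpen H le_top le_top hUY (isAffineOpen_top _)
      (isAffineOpen_top _) hU)
  refine h1.of_iso (Scheme.ΓSpecIso (CommRingCat.of A)) (Iso.refl _)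
    (Scheme.ΓSpecIso (CommRingCat.of B)) (Iso.refl _) ?_ ?_ ?_ ?_
  · simp [αU]
  · exact Scheme.ΓSpecIso_naturality (CommRingCat.ofHom (algebraMap A B))
  · simp
  · simp [αU]


variable [IsAffineHom g'] [M.IsQuasicoherent]

set_option maxRecDepth 8192 in
theorem Q_affine (H : IsPullback g' f' f (Spec.map (CommRingCat.ofHom (algebraMap A B))))
    (U : X.Opens) (hU : IsAffineOpen U) : Q (datum f f' g' M H.w) (ZU U) := by
  intro n
  cases n with
  | zero =>
    have hU' : IsAffineOpen (g' ⁻¹ᵁ U) := hU.preimage g'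
    refine isBC_of_pushout (αU f U) (αU f' (g' ⁻¹ᵁ U)) (g'.appLE U (g' ⁻¹ᵁ U) le_rfl)
      (isPushout_sections f f' g' H U hU) (M := Γ(M, U))
      (M' := Γ((Scheme.Modules.pullback g').obj M, g' ⁻¹ᵁ U)) (pullSect g' M U) ?_
      (ηL (datum f f' g' M H.w) (ZU U) 0) (sectEquiv U _) (sectEquiv U _) ?_ ?_ ?_
    · refine ⟨pullbackSectionsEquiv g' M hU' hU le_rfl, fun m => ?_⟩
      have h := Groth.Agent.Helper19.PullUnit.pullbackSectionsEquiv_pullSect g' M hU' hU le_rfl m
      have h2 : res ((Scheme.Modules.pullback g').obj M) le_rfl (pullSect g' M U m) =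
          pullSect g' M U m := res_self _ _
      rw [h2] at h
      exact h
    · intro a x
      exact sectEquiv_comp U _ x
    · intro b y
      exact sectEquiv_comp U _ y
    · intro x
      exact sectEquiv_comp U _ x
  | succ q =>
    have h1 := Cech.subsingleton_HU_succ_of_isAffineOpen X M U hU q
    have : ((Scheme.Modules.pushforward g').obj ((Scheme.Modules.pullback g').obj M)).IsQuasicoherent :=
      isQuasicoherent_pushforward_of_isAffineHom g' _
    have h2 := Cech.subsingleton_HU_succ_of_isAffineOpen X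
      ((Scheme.Modules.pushforward g').obj ((Scheme.Modules.pullback g').obj M)) U hU q
    have : Subsingleton (EF (datum f f' g' M H.w) (ZU U) (q + 1)) := h1
    have : Subsingleton (EG (datum f f' g' M H.w) (ZU U) (q + 1)) := h2
    exact isBC_of_subsingleton B _

theorem Q_compact [Module.Flat A B] [QuasiSeparatedSpace X]
    (H : IsPullback g' f' f (Spec.map (CommRingCat.ofHom (algebraMap A B))))
    (U : X.Opens) (hU : IsCompact (U : Set X)) : Q (datum f f' g' M H.w) (ZU U) := by
  refine Qcqs.qcqs_induction (fun U => Q (datum f f' g' M H.w) (ZU U))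
    (fun U hU => Q_affine f f' g' M H U hU) ?_ U hU
  intro U V _ _ hPU hPV hPUV
  have hS := (Opens.mayerVietorisSquare U V).shortComplex_shortExact
  have h1 : Q (datum f f' g' M H.w) (Opens.mayerVietorisSquare U V).shortComplex.X₁ := hPUV
  have h2 : Q (datum f f' g' M H.w) (Opens.mayerVietorisSquare U V).shortComplex.X₂ :=
    Q_biprod (datum f f' g' M H.w) hPU hPV
  have h3 : Q (datum f f' g' M H.w) (Opens.mayerVietorisSquare U V).shortComplex.X₃ :=
    Q_X₃ (datum f f' g' M H.w) hS h1 h2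
  exact h3

end main

end Groth.Agent.Lib.Helper22.FBC
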