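import Groth.Agent.Lib.Helper22.FBC.Geom
import Groth.Agent.Lib.Helper22.FBC.ExtMod2
import Groth.Agent.Lib.Helper22.FBC.AlgPO2
import Groth.Agent.Lib.Helper29.QCohTensor

set_option autoImplicit false
set_option linter.unusedSectionVars false
set_option linter.style.haveILetI false

universe u

open CategoryTheory CategoryTheory.Limits AlgebraicGeometry TopologicalSpace Opposite Abelian
open TensorProduct

namespace Groth.Agent.Lib.Helper22.FBC

open _root_.Groth.Agent.Lib.Helper22.CohTop _root_.Groth.Agent.Lib.Helper22.ExtCompare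
open _root_.Groth.Agent.Lib.Helper29.QCoh

variable {A B : Type u} [CommRing A] [CommRing B] [Algebra A B]
  (M : Type u) [AddCommGroup M] [Module A M] [Module B M] [IsScalarTower A B M]
  {X X' : Scheme.{u}} (f : X ⟶ Spec (CommRingCat.of A)) (f' : X' ⟶ Spec (CommRingCat.of B))
  (g : X' ⟶ X) (F : X.Modules)

/-- The module `M~` on `Spec B`. -/
noncomputable abbrev Mt : (Spec (CommRingCat.of B)).Modules :=
  AlgebraicGeometry.tilde (R := CommRingCat.of B) (ModuleCat.of B M)

/-- `f'^* M~`. -/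
noncomputable abbrev QM : X'.Modules := (Scheme.Modules.pullback f').obj (Mt (B := B) M)

/-- `g^*F ⊗ f'^*M~`. -/
noncomputable abbrev GG : X'.Modules :=
  CohB1.tensorMod ((Scheme.Modules.pullback g).obj F) (QM M f')

/-- `m ↦ m~`, the global section of `M~` attached to `m`. -/
noncomputable def tSec : M →+ Γ(Mt (B := B) M, ⊤) where
  toFun m := (tilde.toOpen (R := CommRingCat.of B) (ModuleCat.of B M) ⊤).hom m
  map_zero' := map_zero (tilde.toOpen (R := CommRingCat.of B) (ModuleCat.of B M) ⊤).hom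
  map_add' := map_add (tilde.toOpen (R := CommRingCat.of B) (ModuleCat.of B M) ⊤).hom

/-- The global section of `f'^* M~` attached to `m`. -/
noncomputable def mSec : M →+ Γ(QM M f', ⊤) :=
  (pullSect f' (Mt (B := B) M) ⊤).comp (tSec M)

lemma tmulSec_add_left {Y : Scheme.{u}} (P Q : Y.Modules) {U : Y.Opens} (x x' : Γ(P, U))
    (y : Γ(Q, U)) : tmulSec P Q (x + x') y = tmulSec P Q x y + tmulSec P Q x' y := by
  change tensorSectionsMap P Q U ((x + x') ⊗ₜ y) = _
  rw [TensorProduct.add_tmul, map_add]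
  rfl

lemma tmulSec_add_right {Y : Scheme.{u}} (P Q : Y.Modules) {U : Y.Opens} (x : Γ(P, U))
    (y y' : Γ(Q, U)) : tmulSec P Q x (y + y') = tmulSec P Q x y + tmulSec P Q x y' := by
  change tensorSectionsMap P Q U (x ⊗ₜ (y + y')) = _
  rw [TensorProduct.tmul_add, map_add]
  rfl

lemma tmulSec_smul_left {Y : Scheme.{u}} (P Q : Y.Modules) {U : Y.Opens} (r : Γ(Y, U))
    (x : Γ(P, U)) (y : Γ(Q, U)) : tmulSec P Q (r • x) y = r • tmulSec P Q x y := by
  change tensorSectionsMap P Q U ((r • x) ⊗ₜ y) = r • tensorSectionsMap P Q U (x ⊗ₜ y)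
  rw [← map_smul, TensorProduct.smul_tmul']

lemma tmulSec_smul_right {Y : Scheme.{u}} (P Q : Y.Modules) {U : Y.Opens} (r : Γ(Y, U))
    (x : Γ(P, U)) (y : Γ(Q, U)) : tmulSec P Q x (r • y) = r • tmulSec P Q x y := by
  change tensorSectionsMap P Q U (x ⊗ₜ (r • y)) = r • tensorSectionsMap P Q U (x ⊗ₜ y)
  rw [← map_smul, TensorProduct.smul_tmul', TensorProduct.smul_tmul]

/-- `s ↦ g^*s ⊗ m̃` on sections. -/
noncomputable def θsec (m : M) (U : X.Opens) : Γ(F, U) →+ Γ(GG M f' g F, g ⁻¹ᵁ U) where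
  toFun s := tmulSec ((Scheme.Modules.pullback g).obj F) (QM M f') (pullSect g F U s)
    (res (QM M f') (le_top : g ⁻¹ᵁ U ≤ ⊤) (mSec M f' m))
  map_zero' := by
    have h := tmulSec_add_left ((Scheme.Modules.pullback g).obj F) (QM M f') (pullSect g F U 0)
      (pullSect g F U 0) (res (QM M f') (le_top : g ⁻¹ᵁ U ≤ ⊤) (mSec M f' m))
    rw [map_zero, add_zero] at h
    rw [map_zero]
    exact left_eq_add.mp h
  map_add' s s' := by
    rw [map_add, tmulSec_add_left]


lemma θsec_apply (m : M) (U : X.Opens) (s : Γ(F, U)) :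
    θsec M f' g F m U s = tmulSec ((Scheme.Modules.pullback g).obj F) (QM M f')
      (pullSect g F U s) (res (QM M f') (le_top : g ⁻¹ᵁ U ≤ ⊤) (mSec M f' m)) := rfl

lemma θsec_res (m : M) {U V : X.Opens} (h : V ≤ U) (s : Γ(F, U)) :
    θsec M f' g F m V (res F h s) =
      res (GG M f' g F) (g.preimage_mono h) (θsec M f' g F m U s) := by
  rw [θsec_apply, θsec_apply, pullSect_res, res_tmulSec, res_res]

/-- `θ(m) : F → g_*(g^*F ⊗ f'^*M~)` as a morphism of abelian sheaves. -/
noncomputable def θhom (m : M) :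
    Coh.toAb F ⟶ (Coh.pushAb g).obj (Coh.toAb (GG M f' g F)) :=
  ⟨{ app := fun U => AddCommGrpCat.ofHom (θsec M f' g F m U.unop)
     naturality := by
       intro U V i
       ext s
       exact θsec_res M f' g F m (leOfHom i.unop) s }⟩

lemma θhom_app (m : M) (U : X.Opens) (s : Γ(F, U)) :
    ((θhom M f' g F m).hom.app (op U)).hom s = θsec M f' g F m U s := rfl


/-- The `B`-action on `g_* K` for an `O_{X'}`-module `K`. -/
noncomputable def actPush (K : X'.Modules) : Act B ((Coh.pushAb g).obj (Coh.toAb K)) where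
  ρ b := (Coh.pushAb g).map (Coh.smulAb K (Coh.toGlobal f' b))
  map_one := by rw [map_one, Coh.smulAb_one, CategoryTheory.Functor.map_id]
  map_mul r s := by rw [map_mul, Coh.smulAb_mul, CategoryTheory.Functor.map_comp]
  map_add r s := by rw [map_add, Coh.smulAb_add, CategoryTheory.Functor.map_add]

lemma tSec_smul (b : B) (m : M) :
    tSec (B := B) M (b • m) = (αU (𝟙 (Spec (CommRingCat.of B))) ⊤).hom b • tSec (B := B) M m := by
  have h := (tilde.toOpen (R := CommRingCat.of B) (ModuleCat.of B M) ⊤).hom.map_smul b m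
  exact h


lemma αU_id_comp_app :
    αU (𝟙 (Spec (CommRingCat.of B))) ⊤ ≫ f'.app ⊤ = αU f' ⊤ := by
  unfold αU
  rw [Category.assoc, Scheme.Hom.app_eq_appLE, Scheme.Hom.appLE_comp_appLE]
  congr 1

lemma mSec_smul (b : B) (m : M) :
    mSec M f' (b • m) = (αU f' ⊤).hom b • mSec M f' m := by
  have h1 : pullSect f' (Mt (B := B) M) ⊤ (tSec (B := B) M (b • m)) =
      (f'.app ⊤) ((αU (𝟙 (Spec (CommRingCat.of B))) ⊤).hom b) •
        pullSect f' (Mt (B := B) M) ⊤ (tSec (B := B) M m) := by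
    rw [tSec_smul, pullSect_smul]
  have h := congrArg (fun k => k.hom b) (αU_id_comp_app f')
  exact h1.trans (congrArg (fun r : Γ(X', ⊤) => r • mSec M f' m) h)


lemma αU_map (U V : X'.Opens) (h : V ≤ U) (b : B) :
    X'.presheaf.map (homOfLE h).op ((αU f' U).hom b) = (αU f' V).hom b := by
  have : αU f' U ≫ X'.presheaf.map (homOfLE h).op = αU f' V := by
    unfold αU
    rw [Category.assoc, Scheme.Hom.appLE_map]
  exact congrArg (fun k => k.hom b) this

lemma res_mSec_smul (U' : X'.Opens) (b : B) (m : M) :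
    res (QM M f') (le_top : U' ≤ ⊤) (mSec M f' (b • m)) =
      (αU f' U').hom b • res (QM M f') (le_top : U' ≤ ⊤) (mSec M f' m) := by
  rw [mSec_smul, res_smul, αU_map]

lemma θsec_smulB (b : B) (m : M) (U : X.Opens) (s : Γ(F, U)) :
    θsec M f' g F (b • m) U s = (αU f' (g ⁻¹ᵁ U)).hom b • θsec M f' g F m U s := by
  rw [θsec_apply, θsec_apply, res_mSec_smul, tmulSec_smul_right]

lemma θsec_smulA (hw : g ≫ f = f' ≫ Spec.map (CommRingCat.ofHom (algebraMap A B)))
    (a : A) (m : M) (U : X.Opens) (s : Γ(F, U)) :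
    θsec M f' g F (a • m) U s = θsec M f' g F m U ((αU f U).hom a • s) := by
  rw [← algebraMap_smul B a m, θsec_smulB, θsec_apply, θsec_apply, pullSect_smul,
    tmulSec_smul_left]
  have h := congrArg (fun k => k.hom a) (sq_comm f f' g hw U)
  exact congrArg (fun r => r • tmulSec ((Scheme.Modules.pullback g).obj F) (QM M f')
    (pullSect g F U s) (res (QM M f') (le_top : g ⁻¹ᵁ U ≤ ⊤) (mSec M f' m))) h.symm


lemma θsec_add (m m' : M) (U : X.Opens) (s : Γ(F, U)) :
    θsec M f' g F (m + m') U s = θsec M f' g F m U s + θsec M f' g F m' U s := by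
  rw [θsec_apply, θsec_apply, θsec_apply, map_add, map_add, tmulSec_add_right]

lemma θhom_add (m m' : M) :
    θhom M f' g F (m + m') = θhom M f' g F m + θhom M f' g F m' := by
  ext U s
  obtain ⟨U⟩ := U
  rw [Sheaf.Hom.add_app]
  exact θsec_add M f' g F m m' U s

/-- The pairing datum for `M ⊗ F → g_*(g^*F ⊗ f'^*M~)`. -/
noncomputable def datum2 (hw : g ≫ f = f' ≫ Spec.map (CommRingCat.ofHom (algebraMap A B))) :
    Datum2 A B M (Coh.toAb F) ((Coh.pushAb g).obj (Coh.toAb (GG M f' g F))) where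
  aF := actF f F
  aG := actPush f' g (GG M f' g F)
  θ :=
    { toFun := θhom M f' g F
      map_zero' := by
        have h := θhom_add M f' g F 0 0
        rw [add_zero] at h
        exact left_eq_add.mp h
      map_add' := θhom_add M f' g F }
  hA a m := by
    ext U s
    obtain ⟨U⟩ := U
    exact θsec_smulA M f f' g F hw a m U s
  hB b m := by
    ext U s
    obtain ⟨U⟩ := U
    exact θsec_smulB M f' g F b m U s


lemma αU_id_top : αU (𝟙 (Spec (CommRingCat.of B))) ⊤ = (Scheme.ΓSpecIso (CommRingCat.of B)).inv := by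
  unfold αU
  have : (𝟙 (Spec (CommRingCat.of B)) : Spec (CommRingCat.of B) ⟶ _).appLE ⊤ ⊤ le_top = 𝟙 _ := by
    rw [Scheme.Hom.appLE]
    simp
  rw [this, Category.comp_id]

instance : IsIso (αU (𝟙 (Spec (CommRingCat.of B))) ⊤) := by
  rw [αU_id_top]
  infer_instance

lemma αU_eq_comp (U' : X'.Opens) :
    αU f' U' = αU (𝟙 (Spec (CommRingCat.of B))) ⊤ ≫ f'.appLE ⊤ U' le_top := by
  rw [αU_id_top]
  rfl

lemma tSec_bijective : Function.Bijective (tSec (B := B) M) := by
  have h : IsIso (tilde.toOpen (R := CommRingCat.of B) (ModuleCat.of B M) ⊤) :=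
    AlgebraicGeometry.tilde.isIso_toOpen_top (R := CommRingCat.of B) (M := ModuleCat.of B M)
  exact (ConcreteCategory.isIso_iff_bijective _).mp h


section affine

variable [IsAffineHom g] [F.IsQuasicoherent]

lemma isPushout_sections₀
    (H : IsPullback g f' f (Spec.map (CommRingCat.ofHom (algebraMap A B))))
    (U : X.Opens) (hU : IsAffineOpen U) :
    IsPushout (αU f U)
      (CommRingCat.ofHom (algebraMap A B) ≫ αU (𝟙 (Spec (CommRingCat.of B))) ⊤)
      (g.appLE U (g ⁻¹ᵁ U) le_rfl) (f'.appLE ⊤ (g ⁻¹ᵁ U) le_top) := by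
  refine (isPushout_sections f f' g H U hU).of_iso (Iso.refl _) (Iso.refl _)
    (asIso (αU (𝟙 (Spec (CommRingCat.of B))) ⊤)) (Iso.refl _) ?_ ?_ ?_ ?_
  · simp
  · simp
  · simp
  · simp only [Iso.refl_hom, Category.comp_id, asIso_hom]
    exact αU_eq_comp f' _

set_option maxRecDepth 8192 in
theorem Q2_affine_zero (H : IsPullback g f' f (Spec.map (CommRingCat.ofHom (algebraMap A B))))
    (U : X.Opens) (hU : IsAffineOpen U) :
    Function.Bijective (ΘL (datum2 M f f' g F H.w) (ZU U) 0) := by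
  have hU' : IsAffineOpen (g ⁻¹ᵁ U) := hU.preimage g
  letI modAM₀ : Module A Γ(Mt (B := B) M, ⊤) :=
    Module.compHom Γ(Mt (B := B) M, ⊤)
      (CommRingCat.ofHom (algebraMap A B) ≫ αU (𝟙 (Spec (CommRingCat.of B))) ⊤).hom
  let tE : M ≃ₗ[A] Γ(Mt (B := B) M, ⊤) :=
    { AddEquiv.ofBijective (tSec (B := B) M) (tSec_bijective M) with
      map_smul' := fun a m => by
        change tSec (B := B) M (a • m) =
          (αU (𝟙 (Spec (CommRingCat.of B))) ⊤).hom (algebraMap A B a) • tSec (B := B) M m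
        rw [← algebraMap_smul B a m, tSec_smul] }
  let Θ₀ : Γ(Mt (B := B) M, ⊤) ⊗[A] EF (datum2 M f f' g F H.w).toDatum (ZU U) 0 →ₗ[A]
      EG (datum2 M f f' g F H.w).toDatum (ZU U) 0 :=
    (ΘL (datum2 M f f' g F H.w) (ZU U) 0).comp
      (TensorProduct.congr tE.symm (LinearEquiv.refl A _)).toLinearMap
  have hΘ₀ : Function.Bijective Θ₀ := by
    refine tp_of_pushout
      (CommRingCat.ofHom (algebraMap A B) ≫ αU (𝟙 (Spec (CommRingCat.of B))) ⊤)
      (αU f U) (f'.appLE ⊤ (g ⁻¹ᵁ U) le_top) (g.appLE U (g ⁻¹ᵁ U) le_rfl)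
      (isPushout_sections₀ f f' g H U hU)
      (M := Γ(Mt (B := B) M, ⊤)) (fun _ _ => rfl) (N := Γ(F, U))
      (P := Γ((Scheme.Modules.pullback g).obj F, g ⁻¹ᵁ U)) (Q := Γ(QM M f', g ⁻¹ᵁ U))
      (T := Γ(GG M f' g F, g ⁻¹ᵁ U))
      (pullSect g F U) ?_
      ((res (QM M f') (le_top : g ⁻¹ᵁ U ≤ ⊤)).comp (pullSect f' (Mt (B := B) M) ⊤)) ?_
      (tensorSectionsEquiv ((Scheme.Modules.pullback g).obj F) (QM M f') hU').toAddEquiv
      Θ₀ (sectEquiv U _) (sectEquiv U _) ?_ ?_
    · refine ⟨pullbackSectionsEquiv g F hU' hU le_rfl, fun m => ?_⟩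
      have h := Groth.Agent.Helper19.PullUnit.pullbackSectionsEquiv_pullSect g F hU' hU le_rfl m
      have h2 : res ((Scheme.Modules.pullback g).obj F) le_rfl (pullSect g F U m) =
          pullSect g F U m := res_self _ _
      rw [h2] at h
      exact h
    · exact ⟨pullbackSectionsEquiv f' (Mt (B := B) M) hU' (isAffineOpen_top _) le_top,
        fun m₀ => Groth.Agent.Helper19.PullUnit.pullbackSectionsEquiv_pullSect f' (Mt (B := B) M)
          hU' (isAffineOpen_top _) le_top m₀⟩
    · intro a x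
      exact sectEquiv_comp U _ x
    · intro m₀ x
      have h1 : sectEquiv U _ (Θ₀ (m₀ ⊗ₜ[A] x)) =
          θsec M f' g F (tE.symm m₀) U (sectEquiv U _ x) :=
        sectEquiv_comp U (θhom M f' g F (tE.symm m₀)) x
      refine h1.trans ?_
      have h2 : mSec M f' (tE.symm m₀) = pullSect f' (Mt (B := B) M) ⊤ m₀ := by
        change pullSect f' (Mt (B := B) M) ⊤ (tE (tE.symm m₀)) = _
        rw [LinearEquiv.apply_symm_apply]
      rw [θsec_apply, h2]
      rfl
  have hfun : ⇑(ΘL (datum2 M f f' g F H.w) (ZU U) 0) =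
      Θ₀ ∘ (TensorProduct.congr tE (LinearEquiv.refl A _)) := by
    funext t
    change _ = (ΘL (datum2 M f f' g F H.w) (ZU U) 0)
      ((TensorProduct.congr tE.symm (LinearEquiv.refl A _))
        ((TensorProduct.congr tE (LinearEquiv.refl A _)) t))
    congr 1
    induction t using TensorProduct.induction_on with
    | zero => simp
    | add x y hx hy => simp only [map_add, ← hx, ← hy]
    | tmul m x =>
      simp only [TensorProduct.congr_tmul, LinearEquiv.refl_apply, LinearEquiv.symm_apply_apply]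
  rw [hfun]
  exact hΘ₀.comp (LinearEquiv.bijective _)

set_option maxRecDepth 8192 in
theorem Q2_affine [Module.Flat A M]
    (H : IsPullback g f' f (Spec.map (CommRingCat.ofHom (algebraMap A B))))
    (U : X.Opens) (hU : IsAffineOpen U) : Q2 (datum2 M f f' g F H.w) (ZU U) := by
  intro n
  cases n with
  | zero => exact Q2_affine_zero M f f' g F H U hU
  | succ q =>
    have h1 := Cech.subsingleton_HU_succ_of_isAffineOpen X F U hU q
    have : ((Scheme.Modules.pushforward g).obj (GG M f' g F)).IsQuasicoherent :=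
      isQuasicoherent_pushforward_of_isAffineHom g _
    have h2 := Cech.subsingleton_HU_succ_of_isAffineOpen X
      ((Scheme.Modules.pushforward g).obj (GG M f' g F)) U hU q
    have : Subsingleton (EF (datum2 M f f' g F H.w).toDatum (ZU U) (q + 1)) := h1
    have : Subsingleton (EG (datum2 M f f' g F H.w).toDatum (ZU U) (q + 1)) := h2
    exact tp_bijective_of_subsingleton M _

theorem Q2_compact [Module.Flat A M] [QuasiSeparatedSpace X]
    (H : IsPullback g f' f (Spec.map (CommRingCat.ofHom (algebraMap A B))))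
    (U : X.Opens) (hU : IsCompact (U : Set X)) : Q2 (datum2 M f f' g F H.w) (ZU U) := by
  refine Qcqs.qcqs_induction (fun U => Q2 (datum2 M f f' g F H.w) (ZU U))
    (fun U hU => Q2_affine M f f' g F H U hU) ?_ U hU
  intro U V _ _ hPU hPV hPUV
  have hS := (Opens.mayerVietorisSquare U V).shortComplex_shortExact
  have h1 : Q2 (datum2 M f f' g F H.w) (Opens.mayerVietorisSquare U V).shortComplex.X₁ := hPUV
  have h2 : Q2 (datum2 M f f' g F H.w) (Opens.mayerVietorisSquare U V).shortComplex.X₂ :=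
    Q2_biprod (datum2 M f f' g F H.w) hPU hPV
  have h3 : Q2 (datum2 M f f' g F H.w) (Opens.mayerVietorisSquare U V).shortComplex.X₃ :=
    Q2_X₃ (datum2 M f f' g F H.w) hS h1 h2
  exact h3

end affine

end Groth.Agent.Lib.Helper22.FBC
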