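import Groth.Agent.Lib.Helper22.FBC.Main

set_option autoImplicit false
set_option linter.unusedSectionVars false

universe u

open CategoryTheory CategoryTheory.Limits AlgebraicGeometry TopologicalSpace Opposite Abelian
open TensorProduct

namespace Groth.Agent.Lib.Helper22.FBC

open _root_.Groth.Agent.Lib.Helper22.CohTop _root_.Groth.Agent.Lib.Helper22.ExtCompare
open _root_.Groth.Agent.Lib.Helper29.QCoh

/-- Base change for cohomology, given the base change property of `Ext(ℤ_⊤, -)`. -/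
theorem nonempty_linearEquiv_of_isBC (A B : Type u) [CommRing A] [CommRing B] [Algebra A B]
    (X X' : Scheme.{u}) [X.Over (Spec (CommRingCat.of A))]
    [X'.Over (Spec (CommRingCat.of B))] (g' : X' ⟶ X)
    (h : IsPullback g' (X' ↘ Spec (CommRingCat.of B)) (X ↘ Spec (CommRingCat.of A))
      (Spec.map (CommRingCat.ofHom (algebraMap A B))))
    (M : X.Modules) [M.IsQuasicoherent] (i : ℕ)
    (hQ : IsBC B (ηL (datum (X ↘ Spec (CommRingCat.of A)) (X' ↘ Spec (CommRingCat.of B)) g' M h.w)
      (ZU (⊤ : X.Opens)) i)) :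
    Nonempty (B ⊗[A] (Coh.HH X M i) ≃ₗ[B]
      Coh.HH X' ((Scheme.Modules.pullback g').obj M) i) := by
  have : IsAffineHom g' :=
    MorphismProperty.of_isPullback (P := @IsAffineHom) h.flip inferInstance
  let D := datum (X ↘ Spec (CommRingCat.of A)) (X' ↘ Spec (CommRingCat.of B)) g' M h.w
  let e0 : B ⊗[A] EF D (ZU (⊤ : X.Opens)) i ≃ₗ[B] EG D (ZU (⊤ : X.Opens)) i :=
    LinearEquiv.ofBijective _ hQ
  obtain ⟨E⟩ := nonempty_natFam_top X.carrier i
  obtain ⟨E'⟩ := nonempty_natFam_push g'.base i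
  let eF : EF D (ZU (⊤ : X.Opens)) i ≃ₗ[A] Coh.HH X M i :=
    { E.e (Coh.toAb M) trivial with
      map_smul' := fun a x => E.nat trivial trivial (Coh.smulAb M (Coh.toGlobal _ a)) x }
  have hK : ∀ q : ℕ, IsZero ((CohTop.Rpush g'.base (q + 1)).obj
      (Coh.toAb ((Scheme.Modules.pullback g').obj M))) :=
    fun q => Cech.isZero_RpushAb_succ g' _ q
  let K : CohTop.Ab X'.carrier := Coh.toAb ((Scheme.Modules.pullback g').obj M)
  let G : CohTop.Ab X.carrier := (Coh.pushAb g').obj K
  have hsm : ∀ (b : B) (y : Ext (ZU (⊤ : X.Opens)) G i),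
      (E'.e K hK).symm (E.e G trivial (y.comp
        (Ext.mk₀ ((Coh.pushAb g').map (Coh.smulAb ((Scheme.Modules.pullback g').obj M)
          (Coh.toGlobal (X' ↘ Spec (CommRingCat.of B)) b)))) (add_zero i))) =
      ((E'.e K hK).symm (E.e G trivial y)).comp
        (Ext.mk₀ (Coh.smulAb ((Scheme.Modules.pullback g').obj M)
          (Coh.toGlobal (X' ↘ Spec (CommRingCat.of B)) b))) (add_zero i) := by
    intro b y
    have h1 := E.nat (F := G) (F' := G) trivial trivial
      ((Coh.pushAb g').map (Coh.smulAb ((Scheme.Modules.pullback g').obj M)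
        (Coh.toGlobal (X' ↘ Spec (CommRingCat.of B)) b))) y
    have h2 := E'.nat (F := K) (F' := K) hK hK (Coh.smulAb ((Scheme.Modules.pullback g').obj M)
        (Coh.toGlobal (X' ↘ Spec (CommRingCat.of B)) b))
      ((E'.e K hK).symm (E.e G trivial y))
    rw [AddEquiv.apply_symm_apply] at h2
    rw [AddEquiv.symm_apply_eq]
    exact h1.trans h2.symm
  let eG : EG D (ZU (⊤ : X.Opens)) i ≃ₗ[B]
      Coh.HH X' ((Scheme.Modules.pullback g').obj M) i :=
    { (E.e G trivial).trans (E'.e K hK).symm with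
      map_smul' := fun b y => hsm b y }
  exact ⟨(TensorProduct.AlgebraTensorModule.congr (LinearEquiv.refl B B) eF).symm ≪≫ₗ
    e0 ≪≫ₗ eG⟩

end Groth.Agent.Lib.Helper22.FBC
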